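import Mathlib
import Cfsg.Agent.Lib.PGroup.NormalSub
import Cfsg.Agent.Lib.Char.TwoGroupLinear

/-!
# Normal subgroups of 2-groups without invariant four-groups

A normal subgroup `P` of a 2-group `T` containing two commuting involutions but no four-group
`{1, z, w, w z}` normal in `T` has a cyclic subgroup of index two normal in `T`, and the involutions
outside it are self-centralizing modulo the central involution.
-/

set_option autoImplicit false
set_option linter.unusedSectionVars false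
set_option linter.style.haveILetI false

namespace CfsgLib.FourRankOne

variable {T : Type*} [Group T] [Finite T]

/-- An element of a finite 2-group killed by an odd power is trivial. -/
theorem odd_kill (hT : IsPGroup 2 T) {y : T} {c : ℤ} (hc : Odd c) (h : y ^ c = 1) : y = 1 := by
  obtain ⟨k, hk⟩ := IsPGroup.iff_orderOf.mp hT y
  rw [← orderOf_dvd_iff_zpow_eq_one, hk] at h
  push_cast at h
  rcases k with _ | k
  · rwa [pow_zero, orderOf_eq_one_iff] at hk
  · obtain ⟨d, rfl⟩ := hc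
    have h2 : (2 : ℤ) ∣ 2 * d + 1 := dvd_trans (dvd_pow_self 2 (Nat.succ_ne_zero k)) h
    omega

/-- A non-trivial normal subgroup of a 2-group contains a central involution. -/
theorem exists_central (hT : IsPGroup 2 T) (N : Subgroup T) [N.Normal] (hN : N ≠ ⊥) :
    ∃ z ∈ N, z ≠ 1 ∧ z * z = 1 ∧ ∀ g, g * z = z * g := by
  haveI : Fact (Nat.Prime 2) := ⟨Nat.prime_two⟩
  obtain ⟨k, hk⟩ := IsPGroup.iff_card.mp (hT.to_subgroup N)
  have hk1 : 1 ≤ k := by
    by_contra h
    refine hN (Subgroup.eq_bot_of_card_eq N ?_)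
    rw [hk, show k = 0 by omega, pow_zero]
  obtain ⟨M, hM, hMN, hMc⟩ := CfsgLib.CyclicMax.exists_normal_le_card_pow hT (k - 1) (j := 1) N
    inferInstance (by rw [hk]; congr 1; omega)
  haveI : Nontrivial M := Finite.one_lt_card_iff_nontrivial.mp (by rw [hMc]; norm_num)
  obtain ⟨⟨z, hz⟩, hz1⟩ := exists_ne (1 : M)
  have hz1' : z ≠ 1 := fun h => hz1 (Subtype.ext h)
  classical
  have hall : ∀ x ∈ M, x = 1 ∨ x = z := by
    intro x hx
    haveI : Fintype M := Fintype.ofFinite _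
    by_contra hc
    push Not at hc
    have h3 : ({1, ⟨z, hz⟩, ⟨x, hx⟩} : Finset M).card = 3 := by
      rw [Finset.card_eq_three]
      exact ⟨1, ⟨z, hz⟩, ⟨x, hx⟩, fun h => hz1 h.symm, fun h => hc.1 (congrArg Subtype.val h).symm,
        fun h => hc.2 (congrArg Subtype.val h).symm, rfl⟩
    have := Finset.card_le_univ ({1, ⟨z, hz⟩, ⟨x, hx⟩} : Finset M)
    rw [h3, Fintype.card_eq_nat_card, hMc] at this
    norm_num at this
  refine ⟨z, hMN hz, hz1', ?_, fun g => ?_⟩
  · rcases hall _ (mul_mem hz hz) with h | h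
    · exact h
    · exact absurd (mul_left_cancel (a := z) (h.trans (mul_one z).symm)) hz1'
  · rcases hall _ (hM.conj_mem z hz g) with h | h
    · exact absurd (conj_eq_one_iff.mp h) hz1'
    · exact mul_inv_eq_iff_eq_mul.mp h

/-- An element that is central of order two modulo a smaller normal subgroup. -/
theorem exists_step (hT : IsPGroup 2 T) (A K : Subgroup T) [A.Normal] [K.Normal] (hne : ¬ K ≤ A) :
    ∃ x ∈ K, x ∉ A ∧ x * x ∈ A ∧ ∀ g, g * x * g⁻¹ * x⁻¹ ∈ A := by
  haveI : (K.map (QuotientGroup.mk' A)).Normal :=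
    Subgroup.Normal.map inferInstance _ (QuotientGroup.mk'_surjective A)
  obtain ⟨q, hq, hq1, hqq, hqc⟩ := exists_central (hT.to_quotient A) (K.map (QuotientGroup.mk' A))
    (fun h => hne fun x hx => by
      have h' : QuotientGroup.mk' A x ∈ (⊥ : Subgroup (T ⧸ A)) := h ▸ Subgroup.mem_map_of_mem _ hx
      exact (QuotientGroup.eq_one_iff x).mp (Subgroup.mem_bot.mp h'))
  obtain ⟨x, hx, rfl⟩ := Subgroup.mem_map.mp hq
  refine ⟨x, hx, fun h => hq1 ((QuotientGroup.eq_one_iff x).mpr h), ?_, fun g => ?_⟩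
  · refine (QuotientGroup.eq_one_iff _).mp ?_
    simpa using hqq
  · refine (QuotientGroup.eq_one_iff _).mp ?_
    have := hqc (QuotientGroup.mk' A g)
    simp only [QuotientGroup.mk'_apply] at this
    rw [QuotientGroup.mk_mul, QuotientGroup.mk_mul, QuotientGroup.mk_mul, QuotientGroup.mk_inv,
      QuotientGroup.mk_inv, this]
    group

/-- The shape of a normal subgroup `P` of `T` without invariant four-groups. -/
structure Shape (P : Subgroup T) where
  /-- the cyclic subgroup -/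
  A0 : Subgroup T
  /-- its involution -/
  z : T
  /-- an element of order four -/
  r : T
  A0_le : A0 ≤ P
  idx : A0.relIndex P = 2
  z_mem : z ∈ A0
  z2 : z * z = 1
  z1 : z ≠ 1
  zc : ∀ g, g * z = z * g
  r_mem : r ∈ A0
  r2 : r * r = z
  invA : ∀ x ∈ A0, x * x = 1 → x = 1 ∨ x = z
  r_conj : ∀ g, g * r * g⁻¹ = r ∨ g * r * g⁻¹ = r * z
  rootA : ∀ y ∈ A0, y * y = z → y = r ∨ y = r * z
  out_r : ∀ y ∈ P, y ∉ A0 → y * r * y⁻¹ = r * z
  cent : ∀ t ∈ P, t ∉ A0 → t * t = 1 → ∀ x ∈ P, x * t = t * x → x = 1 ∨ x = z ∨ x = t ∨ x = t * z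
  swap : ∀ t ∈ P, t ∉ A0 → t * t = 1 → r * t * r⁻¹ = t * z
  fix : ∀ g, g * g = 1 → g * r = r * g → ∀ t ∈ P, t ∉ A0 → t * t = 1 →
    g * t * g⁻¹ = t ∨ g * t * g⁻¹ = t * z
  inv_fix : ∀ u, u * r ≠ r * u → ∀ y ∈ A0, u * y = y * u → y = 1 ∨ y = z
  big : ∀ u, u * u = 1 → u * r = r * u → ∀ e ∈ P, e ∉ A0 → e * e = 1 → ∀ y ∈ P, y ∉ A0 → y * y = z →
    8 ≤ Nat.card ↥(P ⊓ Subgroup.centralizer ({u} : Set T))

theorem exists_shape (hT : IsPGroup 2 T) (P : Subgroup T) [hPn : P.Normal]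
    (hno : ∀ z ∈ P, ∀ w ∈ P, z * z = 1 → z ≠ 1 → w * w = 1 → w ≠ 1 → w ≠ z → (∀ g, g * z = z * g) →
      (∀ g, g * w * g⁻¹ = w ∨ g * w * g⁻¹ = w * z) → False)
    {e₁ e₂ : T} (he₁ : e₁ ∈ P) (he₂ : e₂ ∈ P) (h₁ : e₁ * e₁ = 1) (h₂ : e₂ * e₂ = 1) (h₁' : e₁ ≠ 1)
    (h₂' : e₂ ≠ 1) (hne : e₁ ≠ e₂) : Nonempty (Shape P) := by
  classical
  haveI : Fact (Nat.Prime 2) := ⟨Nat.prime_two⟩
  -- a maximal abelian normal subgroup inside `P`
  obtain ⟨A, ⟨hAn, hAP, hAc⟩, hmax⟩ := Set.Finite.exists_maximal (α := Subgroup T)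
    (s := {B : Subgroup T | B.Normal ∧ B ≤ P ∧ ∀ x ∈ B, ∀ y ∈ B, x * y = y * x}) (Set.toFinite _)
    ⟨⊥, inferInstance, bot_le, fun x hx y hy => by
      rw [Subgroup.mem_bot.mp hx, Subgroup.mem_bot.mp hy]⟩
  haveI := hAn
  have hext : ∀ x ∈ P, (∀ a ∈ A, x * a = a * x) → (∀ g, g * x * g⁻¹ * x⁻¹ ∈ A) → x ∈ A := by
    intro x hx hxA hg
    set B := Subgroup.closure ((A : Set T) ∪ {x}) with hB
    have hAB : A ≤ B := fun a ha => Subgroup.subset_closure (Or.inl ha)
    have hxB : x ∈ B := Subgroup.subset_closure (Or.inr rfl)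
    have hBn : B.Normal := by
      refine ⟨fun b hb g => ?_⟩
      induction hb using Subgroup.closure_induction with
      | mem y hy =>
        rcases hy with hy | rfl
        · exact hAB (hAn.conj_mem y hy g)
        · simpa using mul_mem (hAB (hg g)) hxB
      | one => simpa using one_mem B
      | mul u v _ _ iu iv => simpa [conj_mul] using mul_mem iu iv
      | inv u _ iu => rw [← conj_inv]; exact inv_mem iu
    have hBc : IsMulCommutative B := Subgroup.isMulCommutative_closure (by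
      rintro u (hu | rfl) v (hv | rfl)
      · exact hAc u hu v hv
      · exact (hxA u hu).symm
      · exact hxA v hv
      · rfl)
    have hBP : B ≤ P := (Subgroup.closure_le _).mpr (by
      rintro u (hu | rfl)
      · exact hAP hu
      · exact hx)
    exact hmax ⟨hBn, hBP, fun u hu v hv => congrArg Subtype.val (mul_comm' (⟨u, hu⟩ : B) ⟨v, hv⟩)⟩ hAB hxB
  have hPne : P ≠ ⊥ := fun h => h₁' (Subgroup.mem_bot.mp (h ▸ he₁))
  obtain ⟨z, hzP, hz1, hz, hzc⟩ := exists_central hT P hPne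
  have hzA : z ∈ A := hext z hzP (fun a _ => (hzc a).symm) fun g => by
    rw [hzc g, mul_inv_cancel_right, mul_inv_cancel]; exact one_mem A
  -- the involutions of `A`
  have hroot : ∀ v ∈ A, v * v = 1 → v = 1 ∨ v = z := by
    by_contra hbad
    push Not at hbad
    obtain ⟨v, hvA, hv, hv1, hvz⟩ := hbad
    let E : Subgroup T :=
      { carrier := {y | y ∈ A ∧ y * y = 1}
        mul_mem' := fun {a b} ha hb => ⟨mul_mem ha.1 hb.1, by
          rw [mul_assoc, ← mul_assoc b, hAc b hb.1 a ha.1, mul_assoc a, hb.2, mul_one, ha.2]⟩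
        one_mem' := ⟨one_mem _, one_mul 1⟩
        inv_mem' := fun {a} ha => ⟨inv_mem ha.1, by rw [← mul_inv_rev, ha.2, inv_one]⟩ }
    haveI : E.Normal := ⟨fun a ha g => ⟨hAn.conj_mem a ha.1 g, by rw [conj_mul, ha.2, mul_one, mul_inv_cancel]⟩⟩
    let Z : Subgroup T := Subgroup.zpowers z
    haveI : Z.Normal := ⟨fun a ha g => by
      obtain ⟨i, rfl⟩ := Subgroup.mem_zpowers_iff.mp ha
      rw [← conj_zpow, hzc g, mul_inv_cancel_right]
      exact Subgroup.zpow_mem_zpowers z i⟩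
    have hZ : ∀ y ∈ Z, y = 1 ∨ y = z := fun y hy => by
      obtain ⟨i, rfl⟩ := Subgroup.mem_zpowers_iff.mp hy
      rcases Int.even_or_odd' i with ⟨j, rfl | rfl⟩
      · left; rw [zpow_mul, zpow_two, hz, one_zpow]
      · right; rw [zpow_add, zpow_mul, zpow_two, hz, one_zpow, one_mul, zpow_one]
    obtain ⟨w, hwE, hwZ, -, hwg⟩ := exists_step hT Z E fun h => by
      rcases hZ v (h ⟨hvA, hv⟩) with h' | h'
      exacts [hv1 h', hvz h']
    refine hno z hzP w (hAP hwE.1) hz hz1 hwE.2 (fun h => hwZ (h ▸ one_mem Z))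
      (fun h => hwZ (h ▸ Subgroup.mem_zpowers z)) hzc fun g => ?_
    rcases hZ _ (hwg g) with h | h
    · exact Or.inl (mul_inv_eq_one.mp h)
    · right; rw [hzc w]; exact mul_inv_eq_iff_eq_mul.mp h
  haveI hcyc : IsCyclic A := by
    haveI : IsMulCommutative A := ⟨⟨fun u v => Subtype.ext (hAc u u.2 v v.2)⟩⟩
    letI : CommGroup A := IsMulCommutative.instCommGroup
    refine Char.TwoGroupLinear.isCyclic_of_sq (hT.to_subgroup A) ?_
    refine (Nat.card_le_card_of_injective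
      (fun u : {x : A // x ^ 2 = 1} => (⟨(u.1 : T), by
        rcases hroot _ u.1.2 (by rw [← pow_two]; exact congrArg Subtype.val u.2) with h | h <;> simp [h]⟩ :
          ({1, z} : Finset T)))
      fun u v h => Subtype.ext (Subtype.ext (congrArg (fun w : ({1, z} : Finset T) => (w : T)) h))).trans ?_
    rw [Nat.card_eq_finsetCard]
    exact Finset.card_le_two
  obtain ⟨⟨a, haA⟩, hgen⟩ := hcyc.exists_generator
  have hgen' : ∀ u ∈ A, ∃ i : ℤ, a ^ i = u := fun u hu => by
    obtain ⟨i, hi⟩ := Subgroup.mem_zpowers_iff.mp (hgen ⟨u, hu⟩)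
    exact ⟨i, congrArg Subtype.val hi⟩
  have hcenta : ∀ x : T, Commute x a → ∀ y ∈ A, x * y = y * x := fun x hx y hy => by
    obtain ⟨i, rfl⟩ := hgen' y hy
    exact (hx.zpow_right i).eq
  -- `A` is self-centralizing in `P`
  haveI : Subgroup.Normal (P ⊓ Subgroup.centralizer (A : Set T)) := inferInstance
  have hself : ∀ x ∈ P, Commute x a → x ∈ A := by
    intro x hx hxa
    by_contra hxA
    obtain ⟨y, hy, hyA, -, hyg⟩ := exists_step hT A (P ⊓ Subgroup.centralizer (A : Set T))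
      fun h => hxA (h ⟨hx, fun b hb => (hcenta x hxa b hb).symm⟩)
    exact hyA (hext y hy.1 (fun b hb => (hy.2 b hb).symm) hyg)
  obtain ⟨n, hn⟩ := IsPGroup.iff_orderOf.mp hT a
  obtain ⟨m, rfl⟩ : ∃ m, n = m + 2 := by
    refine ⟨n - 2, ?_⟩
    by_contra hne2
    have h2 : a * a = 1 := by
      rw [← pow_two, ← orderOf_dvd_iff_pow_eq_one, hn]
      exact pow_dvd_pow 2 (show n ≤ 1 by omega)
    have hall : ∀ e ∈ P, e * e = 1 → e = 1 ∨ e = z := fun e he he' =>
      hroot e (hself e he (by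
        rcases hroot a haA h2 with h | h <;> rw [h]
        · exact Commute.one_right e
        · exact hzc e)) he'
    rcases hall e₁ he₁ h₁ with h | h
    · exact h₁' h
    rcases hall e₂ he₂ h₂ with h' | h'
    · exact h₂' h'
    exact hne (h.trans h'.symm)
  set r := a ^ (2 ^ m) with hr
  have hrA : r ∈ A := pow_mem haA _
  have hao : orderOf a = 4 * 2 ^ m := by rw [hn, pow_add]; ring
  have hzp : ∀ i : ℤ, a ^ i = 1 ↔ (4 : ℤ) * 2 ^ m ∣ i := fun i => by
    rw [← orderOf_dvd_iff_zpow_eq_one, hao]; push_cast; rfl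
  have hm0 : (0 : ℤ) < 2 ^ m := by positivity
  have hrr : r * r = z := by
    have hrz : r * r = a ^ ((2 : ℤ) * 2 ^ m) := by
      rw [hr, ← pow_add, ← zpow_natCast]; congr 1; push_cast; ring
    refine (hroot _ (mul_mem hrA hrA) ?_).resolve_left fun h => ?_
    · rw [hrz, ← zpow_add, hzp]; exact ⟨1, by ring⟩
    · rw [hrz, hzp] at h
      have := Int.le_of_dvd (by positivity) h
      omega
  have hrne : ∀ y : T, y * y = 1 → r ≠ y := fun y hy h => hz1 (by rw [← hrr, h, hy])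
  have hrconj : ∀ g, g * r * g⁻¹ = r ∨ g * r * g⁻¹ = r * z := by
    intro g
    have hA' := hAn.conj_mem r hrA g
    have hsq : (g * r * g⁻¹) * (g * r * g⁻¹) = z := by
      rw [conj_mul, hrr, hzc g, mul_inv_cancel_right]
    have hd : (r⁻¹ * (g * r * g⁻¹)) * (r⁻¹ * (g * r * g⁻¹)) = 1 := by
      have hc := hAc _ (inv_mem hrA) _ hA'
      calc (r⁻¹ * (g * r * g⁻¹)) * (r⁻¹ * (g * r * g⁻¹))
          = r⁻¹ * ((g * r * g⁻¹) * r⁻¹) * (g * r * g⁻¹) := by simp only [mul_assoc]
        _ = r⁻¹ * (r⁻¹ * (g * r * g⁻¹)) * (g * r * g⁻¹) := by rw [hc]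
        _ = (r * r)⁻¹ * ((g * r * g⁻¹) * (g * r * g⁻¹)) := by
            rw [mul_inv_rev]; simp only [mul_assoc]
        _ = 1 := by rw [hsq, hrr, inv_mul_cancel]
    rcases hroot _ (mul_mem (inv_mem hrA) hA') hd with h | h
    · exact Or.inl (inv_mul_eq_one.mp h).symm
    · exact Or.inr (inv_mul_eq_iff_eq_mul.mp h)
  -- exponents
  have hexp : ∀ x : T, ∃ i : ℤ, a ^ i = x * a * x⁻¹ := fun x => hgen' _ (hAn.conj_mem a haA x)
  have hrexp : ∀ x : T, ∀ i : ℤ, a ^ i = x * a * x⁻¹ → x * r * x⁻¹ = a ^ (i * 2 ^ m) := fun x i hi => by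
    rw [hr, ← conj_pow, ← hi, ← zpow_natCast, ← zpow_mul]; push_cast; rfl
  have hfixr : ∀ x : T, x * r = r * x → ∀ i : ℤ, a ^ i = x * a * x⁻¹ → (4 : ℤ) ∣ i - 1 := by
    intro x hx i hi
    have h : x * r * x⁻¹ = r := by rw [hx, mul_inv_cancel_right]
    rw [hrexp x i hi, hr, ← zpow_natCast, ← mul_inv_eq_one, ← zpow_neg, ← zpow_add, hzp] at h
    push_cast at h
    rw [show i * 2 ^ m + -2 ^ m = (i - 1) * 2 ^ m by ring] at h
    exact (mul_dvd_mul_iff_right hm0.ne').mp h
  have hinvr : ∀ x : T, x * r * x⁻¹ = r * z → ∀ i : ℤ, a ^ i = x * a * x⁻¹ → (4 : ℤ) ∣ i + 1 := by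
    intro x hx i hi
    have h : x * r * x⁻¹ * r = 1 := by
      rw [hx, mul_assoc, ← hzc r, ← mul_assoc, hrr, hz]
    rw [hrexp x i hi, hr, ← zpow_natCast, ← zpow_add, hzp] at h
    push_cast at h
    rw [show i * 2 ^ m + 2 ^ m = (i + 1) * 2 ^ m by ring] at h
    exact (mul_dvd_mul_iff_right hm0.ne').mp h
  -- the centralizer of `r` in `P` is `A`
  have hK : ∀ x ∈ P, x * r = r * x → x ∈ A := by
    by_contra hbad
    push Not at hbad
    obtain ⟨x₀, hx₀, hx₀r, hx₀A⟩ := hbad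
    let K : Subgroup T := P ⊓ Subgroup.centralizer ({r} : Set T)
    haveI : K.Normal := by
      refine ⟨fun y hy g => ⟨hPn.conj_mem y hy.1 g, Subgroup.mem_centralizer_singleton_iff.mpr ?_⟩⟩
      have hyr : Commute y r := Subgroup.mem_centralizer_singleton_iff.mp hy.2
      have hc : Commute y (g⁻¹ * r * g) := by
        rcases hrconj g⁻¹ with h | h <;> rw [inv_inv] at h <;> rw [h]
        · exact hyr
        · exact hyr.mul_right (hzc y)
      calc g * y * g⁻¹ * r = g * (y * (g⁻¹ * r * g)) * g⁻¹ := by group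
        _ = g * ((g⁻¹ * r * g) * y) * g⁻¹ := by rw [hc.eq]
        _ = r * (g * y * g⁻¹) := by group
    obtain ⟨x, hxK, hxA, hxx, hxg⟩ := exists_step hT A K fun h =>
      hx₀A (h ⟨hx₀, Subgroup.mem_centralizer_singleton_iff.mpr hx₀r⟩)
    have hxr : x * r = r * x := Subgroup.mem_centralizer_singleton_iff.mp hxK.2
    obtain ⟨i, hi⟩ := hexp x
    obtain ⟨c, hc⟩ := hfixr x hxr i hi
    have hii : a ^ (i * i) = a := by
      rw [zpow_mul, hi, conj_zpow, hi, show x * (x * a * x⁻¹) * x⁻¹ = x * x * a * (x * x)⁻¹ by group,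
        hAc _ hxx a haA, mul_inv_cancel_right]
    have h2i : (a ^ (i - 1)) * (a ^ (i - 1)) = 1 := by
      refine odd_kill hT (c := 2 * c + 1) ⟨c, rfl⟩ ?_
      rw [← zpow_add, ← zpow_mul, show (i - 1 + (i - 1)) * (2 * c + 1) = i * i + -1 by
        linear_combination (1 - i) * hc, zpow_add, hii, zpow_neg_one, mul_inv_cancel]
    have hxa : x * a * x⁻¹ = a * z := by
      rcases hroot _ (zpow_mem haA _) h2i with h | h
      · refine absurd (hself x hxK.1 ?_) hxA
        rw [zpow_sub, zpow_one, mul_inv_eq_one, hi] at h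
        exact mul_inv_eq_iff_eq_mul.mp h
      · rw [← hi, ← h, ← zpow_one_add]; congr 1; ring
    obtain ⟨h', hh'⟩ : ∃ h' : ℤ, (2 : ℤ) ^ m = 2 * h' := by
      rcases m with _ | m
      · refine absurd (hself x hxK.1 ?_) hxA
        have : r = a := by rw [hr, pow_zero, pow_one]
        exact this ▸ hxr
      · exact ⟨2 ^ m, by rw [pow_succ]; ring⟩
    have hzj : ∀ j : ℤ, z ^ j = a ^ (2 * 2 ^ m * j) := fun j => by
      rw [← hrr, zpow_mul]
      congr 1
      rw [hr, ← pow_add, ← zpow_natCast]; congr 1; push_cast; ring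
    have hza : Commute a z := hzc a
    have hxaj : ∀ j : ℤ, x * a ^ j * x⁻¹ = a ^ (j + 2 * 2 ^ m * j) := fun j => by
      rw [← conj_zpow, hxa, hza.mul_zpow, hzj, ← zpow_add]
    obtain ⟨k, hk⟩ := hgen' _ hxx
    obtain ⟨k', rfl⟩ : ∃ k', k = 2 * k' := by
      have h := hxaj k
      rw [hk, show x * (x * x) * x⁻¹ = x * x by group, ← hk] at h
      have h1 : a ^ (2 * 2 ^ m * k) = 1 := by rw [zpow_add, left_eq_mul] at h; exact h
      rw [hzp] at h1
      obtain ⟨d, hd⟩ := h1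
      exact ⟨d, mul_left_cancel₀ (show (2 * 2 ^ m : ℤ) ≠ 0 by positivity) (by rw [hd]; ring)⟩
    have hsq : ∀ j : ℤ, a ^ j * x * (a ^ j * x) = a ^ (2 * (j + 2 ^ m * j + k')) := fun j => by
      rw [show a ^ j * x * (a ^ j * x) = a ^ j * (x * a ^ j * x⁻¹) * (x * x) by group, hxaj, ← hk,
        ← zpow_add, ← zpow_add]
      congr 1; ring
    set e := a ^ (-k' * (1 - 2 ^ m)) * x with he
    have hee : e * e = 1 := by
      rw [he, hsq, hzp]
      exact ⟨h' * k', by linear_combination (2 * k' * (2 : ℤ) ^ m) * hh'⟩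
    have heA : e ∉ A := fun h => hxA (by
      have := mul_mem (inv_mem (zpow_mem haA (-k' * (1 - 2 ^ m)))) h
      rwa [he, inv_mul_cancel_left] at this)
    have hea : ∀ l : ℤ, e * a ^ l * e⁻¹ = a ^ (l + 2 * 2 ^ m * l) := fun l => by
      rw [he, show ∀ b : T, b * x * a ^ l * (b * x)⁻¹ = b * (x * a ^ l * x⁻¹) * b⁻¹ from fun b => by group,
        hxaj, ← zpow_add, ← zpow_neg, ← zpow_add]
      congr 1; ring
    refine hno z hzP e (mul_mem (hAP (zpow_mem haA _)) hxK.1) hz hz1 hee (fun h => heA (h ▸ one_mem A))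
      (fun h => heA (h ▸ hzA)) hzc fun g => ?_
    obtain ⟨l, hl⟩ := hgen' (g * e * g⁻¹ * e⁻¹) (by
      rw [he, show ∀ b : T, g * (b * x) * g⁻¹ * (b * x)⁻¹ = (g * b * g⁻¹) * (g * x * g⁻¹ * x⁻¹) * b⁻¹
        from fun b => by group]
      exact mul_mem (mul_mem (hAn.conj_mem _ (zpow_mem haA _) g) (hxg g)) (inv_mem (zpow_mem haA _)))
    have hge : g * e * g⁻¹ = a ^ l * e := by rw [hl, inv_mul_cancel_right]
    have hll : a ^ (2 * l * (1 + 2 ^ m)) = 1 := by
      have h : (g * e * g⁻¹) * (g * e * g⁻¹) = 1 := by rw [conj_mul, hee, mul_one, mul_inv_cancel]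
      rw [hge, show a ^ l * e * (a ^ l * e) = a ^ l * (e * a ^ l * e⁻¹) * (e * e) by group, hea, hee, mul_one,
        ← zpow_add] at h
      rw [← h]; congr 1; ring
    have hl2 : a ^ l * a ^ l = 1 := by
      refine odd_kill hT (c := 1 + 2 ^ m) ⟨h', by rw [hh']; ring⟩ ?_
      rw [← zpow_add, ← zpow_mul, ← two_mul]; exact hll
    rcases hroot _ (zpow_mem haA l) hl2 with h | h
    · left; rw [hge, h, one_mul]
    · right; rw [hge, h, hzc e]
  have hout : ∀ x ∈ P, x ∉ A → x * r * x⁻¹ = r * z := fun x hx hxA =>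
    (hrconj x).resolve_left fun h => hxA (hK x hx (mul_inv_eq_iff_eq_mul.mp h))
  have hprod : ∀ x ∈ P, ∀ y ∈ P, x ∉ A → y ∉ A → x * y ∈ A := fun x hx y hy hxA hyA =>
    hK _ (mul_mem hx hy) (mul_inv_eq_iff_eq_mul.mp (by
      rw [show x * y * r * (x * y)⁻¹ = x * (y * r * y⁻¹) * x⁻¹ by group, hout y hy hyA, ← conj_mul,
        hout x hx hxA, hzc x, mul_inv_cancel_right, mul_assoc, hz, mul_one]))
  have hexi : ∃ t ∈ P, t ∉ A := by
    by_contra hall
    push Not at hall
    rcases hroot e₁ (hall e₁ he₁) h₁ with h | h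
    · exact h₁' h
    rcases hroot e₂ (hall e₂ he₂) h₂ with h' | h'
    · exact h₂' h'
    exact hne (h.trans h'.symm)
  have hconjA : ∀ t : T, t * r * t⁻¹ = r * z → ∀ i : ℤ, a ^ i = t * a * t⁻¹ → ∀ j : ℤ,
      t * a ^ j = a ^ j * t → a ^ j * a ^ j = 1 := by
    intro t ht i hi j hj
    obtain ⟨c, hc⟩ := hinvr t ht i hi
    refine odd_kill hT (c := 2 * c - 1) ⟨c - 1, by ring⟩ ?_
    have h : t * a ^ j * t⁻¹ = a ^ (i * j) := by rw [zpow_mul, hi, conj_zpow]
    rw [hj, mul_inv_cancel_right] at h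
    rw [← zpow_add, ← zpow_mul, show (j + j) * (2 * c - 1) = i * j + -j by linear_combination (-j) * hc,
      zpow_add, ← h, zpow_neg, mul_inv_cancel]
  refine ⟨⟨A, z, r, hAP, ?_, hzA, hz, hz1, hzc, hrA, hrr, hroot, hrconj, ?_, hout, ?_, ?_, ?_, ?_, ?_⟩⟩
  · obtain ⟨t, ht, htA⟩ := hexi
    refine Subgroup.relIndex_eq_two_iff_exists_notMem_and.mpr ⟨t, ht, htA, fun b hb => ?_⟩
    by_cases hbA : b ∈ A
    · exact Or.inr hbA
    · exact Or.inl (hprod b hb t ht hbA htA)
  · intro y hy hyy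
    have hc := hAc _ (inv_mem hrA) y hy
    have hd : r⁻¹ * y * (r⁻¹ * y) = 1 := by
      calc r⁻¹ * y * (r⁻¹ * y) = r⁻¹ * (y * r⁻¹) * y := by simp only [mul_assoc]
        _ = r⁻¹ * (r⁻¹ * y) * y := by rw [hc]
        _ = (r * r)⁻¹ * (y * y) := by rw [mul_inv_rev]; simp only [mul_assoc]
        _ = 1 := by rw [hrr, hyy, inv_mul_cancel]
    rcases hroot _ (mul_mem (inv_mem hrA) hy) hd with h | h
    · exact Or.inl (inv_mul_eq_one.mp h).symm
    · exact Or.inr (inv_mul_eq_iff_eq_mul.mp h)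
  · intro t ht htA htt x hx hxt
    by_cases hxA : x ∈ A
    · obtain ⟨j, rfl⟩ := hgen' x hxA
      obtain ⟨i, hi⟩ := hexp t
      rcases hroot _ hxA (hconjA t (hout t ht htA) i hi j hxt.symm) with h | h <;> simp [h]
    · obtain ⟨j, hj⟩ := hgen' _ (hprod x hx t ht hxA htA)
      obtain ⟨i, hi⟩ := hexp t
      have hc : t * a ^ j = a ^ j * t := by rw [hj, ← mul_assoc, ← hxt]
      have hxj : x = a ^ j * t := by rw [hj, mul_assoc, htt, mul_one]
      rcases hroot _ (zpow_mem haA j) (hconjA t (hout t ht htA) i hi j hc) with h | h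
      · exact Or.inr (Or.inr (Or.inl (by rw [hxj, h, one_mul])))
      · exact Or.inr (Or.inr (Or.inr (by rw [hxj, h, hzc t])))
  · intro t ht htA htt
    have h := hout t ht htA
    rw [mul_inv_eq_iff_eq_mul] at h
    have h2 : r * t = t * r * z := by
      rw [h, mul_assoc (r * z), hzc t, ← mul_assoc, mul_assoc r z z, hz, mul_one]
    rw [h2, mul_assoc t r z, hzc r, ← mul_assoc t z r, mul_inv_cancel_right]
  · intro g hgg hgr t ht htA htt
    obtain ⟨s, hs⟩ := hexp g
    obtain ⟨c, hc⟩ := hfixr g hgr s hs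
    have hgt : g * t * g⁻¹ ∈ P := hPn.conj_mem t ht g
    have hgtA : g * t * g⁻¹ ∉ A := fun h => htA (by
      have h' := hAn.conj_mem _ h g⁻¹
      rwa [inv_inv, show g⁻¹ * (g * t * g⁻¹) * g = t by group] at h')
    obtain ⟨k, hk⟩ := hgen' _ (hprod _ hgt t ht hgtA htA)
    have hgk : g * t * g⁻¹ = a ^ k * t := by rw [hk, mul_assoc _ t t, htt, mul_one]
    have hq : a ^ (s * k + k) = 1 := by
      have h2 : g * (a ^ k * t) * g⁻¹ = t := by
        rw [← hgk, show g * (g * t * g⁻¹) * g⁻¹ = (g * g) * t * (g * g)⁻¹ by group, hgg]; group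
      rw [show g * (a ^ k * t) * g⁻¹ = (g * a ^ k * g⁻¹) * (g * t * g⁻¹) by group, hgk, ← conj_zpow, ← hs,
        ← zpow_mul, ← mul_assoc, ← zpow_add, mul_eq_right] at h2
      exact h2
    have hk2 : a ^ k * a ^ k = 1 := by
      refine odd_kill hT (c := 2 * c + 1) ⟨c, rfl⟩ ?_
      rw [← zpow_add, ← zpow_mul, show (k + k) * (2 * c + 1) = s * k + k by linear_combination (-k) * hc]
      exact hq
    rcases hroot _ (zpow_mem haA k) hk2 with h | h
    · left; rw [hgk, h, one_mul]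
    · right; rw [hgk, h, hzc t]
  · intro u hu y hyA huy
    obtain ⟨i, hi⟩ := hexp u
    obtain ⟨j, rfl⟩ := hgen' y hyA
    exact hroot _ hyA (hconjA u ((hrconj u).resolve_left fun h => hu (mul_inv_eq_iff_eq_mul.mp h)) i hi j huy)
  · intro u huu hur e he heA hee y hy hyA hyy
    have hm : 1 ≤ m := by
      by_contra hm
      have hra : r = a := by rw [hr, show m = 0 by omega, pow_zero, pow_one]
      obtain ⟨j, hj⟩ := hgen' _ (hprod y hy e he hyA heA)
      have hye : y = a ^ j * e := by rw [hj, mul_assoc, hee, mul_one]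
      have hea : e * a ^ j * e⁻¹ = (a ^ j)⁻¹ := by
        have h := hout e he heA
        rw [hra] at h
        rw [← conj_zpow, h, ← inv_zpow]
        congr 1
        refine eq_inv_of_mul_eq_one_left ?_
        rw [mul_assoc, ← hzc a, ← mul_assoc, ← hra, hrr, hz]
      refine hz1 ?_
      rw [← hyy, hye, show a ^ j * e * (a ^ j * e) = a ^ j * (e * a ^ j * e⁻¹) * (e * e) by group, hea, hee,
        mul_one, mul_inv_cancel]
    have h8 : 8 ≤ orderOf a := by
      rw [hn]; exact le_trans (by norm_num) (Nat.pow_le_pow_right two_pos (show 3 ≤ m + 2 by omega))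
    set D := P ⊓ Subgroup.centralizer ({u} : Set T)
    have hmem : ∀ b ∈ P, u * b * u⁻¹ = b → b ∈ D := fun b hb h =>
      ⟨hb, Subgroup.mem_centralizer_singleton_iff.mpr (mul_inv_eq_iff_eq_mul.mp h).symm⟩
    obtain ⟨l, hl⟩ := hexp u
    obtain ⟨c, hc⟩ := hfixr u hur l hl
    have h2l : a ^ (l - 1) * a ^ (l - 1) = 1 := by
      have hll : a ^ (l * l) = a := by
        rw [zpow_mul, hl, conj_zpow, hl, show u * (u * a * u⁻¹) * u⁻¹ = u * u * a * (u * u)⁻¹ by group, huu]
        group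
      refine odd_kill hT (c := 2 * c + 1) ⟨c, rfl⟩ ?_
      rw [← zpow_add, ← zpow_mul, show (l - 1 + (l - 1)) * (2 * c + 1) = l * l + -1 by
        linear_combination (1 - l) * hc, zpow_add, hll, zpow_neg_one, mul_inv_cancel]
    have hal : u * a * u⁻¹ = a * a ^ (l - 1) := by
      rw [← hl, ← zpow_one_add]; congr 1; ring
    rcases hroot _ (zpow_mem haA _) h2l with h | h <;> rw [h] at hal
    · rw [mul_one] at hal
      refine h8.trans ?_
      rw [← Nat.card_zpowers]
      exact Subgroup.card_le_of_le (Subgroup.zpowers_le.mpr (hmem a (hAP haA) hal))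
    · obtain ⟨b, hb, hbA, hbu⟩ : ∃ b ∈ P, b ∉ A ∧ u * b * u⁻¹ = b := by
        obtain ⟨s, hs⟩ := hexp u
        obtain ⟨k, hk⟩ := hfixr u hur s hs
        have hue : u * e * u⁻¹ ∈ P := hPn.conj_mem e he u
        have hueA : u * e * u⁻¹ ∉ A := fun h' => heA (by
          have h'' := hAn.conj_mem _ h' u⁻¹
          rwa [inv_inv, show u⁻¹ * (u * e * u⁻¹) * u = e by group] at h'')
        obtain ⟨q, hq⟩ := hgen' _ (hprod _ hue e he hueA heA)
        have hqe : u * e * u⁻¹ = a ^ q * e := by rw [hq, mul_assoc _ e e, hee, mul_one]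
        have hsq : a ^ (s * q + q) = 1 := by
          have h2 : u * (a ^ q * e) * u⁻¹ = e := by
            rw [← hqe, show u * (u * e * u⁻¹) * u⁻¹ = (u * u) * e * (u * u)⁻¹ by group, huu]; group
          rw [show u * (a ^ q * e) * u⁻¹ = (u * a ^ q * u⁻¹) * (u * e * u⁻¹) by group, hqe, ← conj_zpow, ← hs,
            ← zpow_mul, ← mul_assoc, ← zpow_add, mul_eq_right] at h2
          exact h2
        have hq2 : a ^ q * a ^ q = 1 := by
          refine odd_kill hT (c := 2 * k + 1) ⟨k, rfl⟩ ?_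
          rw [← zpow_add, ← zpow_mul, show (q + q) * (2 * k + 1) = s * q + q by linear_combination (-q) * hk]
          exact hsq
        rcases hroot _ (zpow_mem haA q) hq2 with h' | h'
        · exact ⟨e, he, heA, by rw [hqe, h', one_mul]⟩
        · refine ⟨a * e, mul_mem (hAP haA) he, fun h'' => heA (by simpa using mul_mem (inv_mem haA) h''), ?_⟩
          rw [← conj_mul, hal, hqe, h', ← mul_assoc, mul_assoc a, hz, mul_one]
      have hrD : r ∈ D := hmem r (hAP hrA) (by rw [hur, mul_inv_cancel_right])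
      have hr4 : orderOf r = 4 := by
        refine orderOf_eq_prime_pow (p := 2) (n := 1) ?_ ?_
        · rw [pow_one, pow_two, hrr]; exact hz1
        · rw [show (2 : ℕ) ^ (1 + 1) = 2 * 2 from rfl, pow_mul, pow_two r, hrr, pow_two, hz]
      have hle : Subgroup.zpowers r ≤ D := Subgroup.zpowers_le.mpr hrD
      have hd := Subgroup.card_dvd_of_le hle
      rw [Nat.card_zpowers, hr4] at hd
      have hne4 : Nat.card D ≠ 4 := fun h4 => hbA (Subgroup.zpowers_le.mpr hrA
        ((Subgroup.eq_of_le_of_card_ge hle (by rw [Nat.card_zpowers, hr4, h4])).symm ▸ hmem b hb hbu))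
      have hpos : 0 < Nat.card D := Nat.card_pos
      obtain ⟨d, hd'⟩ := hd
      omega

end CfsgLib.FourRankOne
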