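import Mathlib

/-!
# The transfer of an involution, evaluated at the fixed points of a centralizing 2-group

If `y` is an involution in a 2-subgroup `Q` of its centralizer and a homomorphism `φ` of a subgroup `P` of odd
index takes one value `b` on all conjugates of `y` by elements conjugating `Q` into `P`, then the transfer of `φ`
takes the value `b` at `y`.
-/

set_option autoImplicit false
set_option linter.unusedSectionVars false
set_option linter.style.haveILetI false

namespace CfsgLib.FourRankOne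

variable {X : Type*} [Group X] [Finite X]

theorem transfer_involution {B : Type*} [CommGroup B] (P : Subgroup X) (hP : ¬ 2 ∣ P.index) (φ : P →* B)
    (y : X) (hy : y * y = 1) (Q : Subgroup X) (hQ : IsPGroup 2 Q) (hyQ : y ∈ Q)
    (hcomm : ∀ q ∈ Q, q * y = y * q) (b : B)
    (hall : ∀ h : X, (∀ q ∈ Q, h⁻¹ * q * h ∈ P) → ∀ hp : h⁻¹ * y * h ∈ P, φ ⟨h⁻¹ * y * h, hp⟩ = b) :
    MonoidHom.transfer φ y = b := by
  classical
  haveI : Fintype (X ⧸ P) := Fintype.ofFinite _
  haveI : Fact (Nat.Prime 2) := ⟨Nat.prime_two⟩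
  let v : X ⧸ P → B := fun q => if hq : q.out⁻¹ * y * q.out ∈ P then φ ⟨_, hq⟩ else 1
  have hfix : ∀ h : X, (y • (h : X ⧸ P) = (h : X ⧸ P)) ↔ h⁻¹ * y * h ∈ P := fun h => by
    rw [MulAction.Quotient.smul_mk, smul_eq_mul, eq_comm, QuotientGroup.eq, mul_assoc]
  have hv : ∀ (h : X) (hp : h⁻¹ * y * h ∈ P), v (h : X ⧸ P) = φ ⟨_, hp⟩ := fun h hp => by
    obtain ⟨p, hp'⟩ := QuotientGroup.mk_out_eq_mul P h
    have hmem : (h : X ⧸ P).out⁻¹ * y * (h : X ⧸ P).out ∈ P := by
      rw [hp', show (h * (p : X))⁻¹ * y * (h * p) = (p : X)⁻¹ * (h⁻¹ * y * h) * p by group]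
      exact mul_mem (mul_mem (inv_mem p.2) hp) p.2
    simp only [v]
    rw [dif_pos hmem]
    have he : (⟨_, hmem⟩ : P) = p⁻¹ * ⟨_, hp⟩ * p := Subtype.ext (by
      show (h : X ⧸ P).out⁻¹ * y * (h : X ⧸ P).out = (p : X)⁻¹ * (h⁻¹ * y * h) * p
      rw [hp']; group)
    rw [he, map_mul, map_mul, map_inv, mul_right_comm, inv_mul_cancel, one_mul]
  -- the fixed points
  let F : Finset (X ⧸ P) := Finset.univ.filter fun q => y • q = q
  have hFv : ∀ q ∈ F, q.out⁻¹ * y * q.out ∈ P := fun q hq => by
    refine (hfix q.out).mp ?_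
    rw [QuotientGroup.out_eq']
    exact (Finset.mem_filter.mp hq).2
  haveI : Fintype (Quotient (MulAction.orbitRel (Subgroup.zpowers y) (X ⧸ P))) := Fintype.ofFinite _
  have hyy : ∀ q : X ⧸ P, y • y • q = q := fun q => by rw [smul_smul, hy, one_smul]
  have horbit : ∀ q q' : X ⧸ P,
      Quotient.mk (MulAction.orbitRel (Subgroup.zpowers y) (X ⧸ P)) q = Quotient.mk _ q' →
        q = q' ∨ q = y • q' := by
    intro q q' h
    obtain ⟨⟨g, hg⟩, he⟩ := MulAction.orbitRel_apply.mp (Quotient.exact h)
    obtain ⟨i, rfl⟩ := Subgroup.mem_zpowers_iff.mp hg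
    have he' : q = y ^ i • q' := he.symm
    rcases Int.even_or_odd' i with ⟨j, rfl | rfl⟩
    · left; rw [he', zpow_mul, zpow_two, hy, one_zpow, one_smul]
    · right; rw [he', zpow_add, zpow_mul, zpow_two, hy, one_zpow, one_mul, zpow_one]
  -- the transfer is the product of the values at the fixed points
  have hT : MonoidHom.transfer φ y = ∏ q ∈ F, v q := by
    rw [MonoidHom.transfer_eq_prod_quotient_orbitRel_zpowers_quot]
    rw [← Finset.prod_filter_of_ne (p := fun o => y • o.out = o.out) (fun o _ hne => by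
      by_contra hmove
      refine hne ?_
      have hp2 : Function.minimalPeriod (fun x => y • x) o.out = 2 :=
        Function.minimalPeriod_eq_prime (p := 2) (hyy _) hmove
      have he : (⟨_, QuotientGroup.out_conj_pow_minimalPeriod_mem P y o.out⟩ : P) = 1 := Subtype.ext (by
        show o.out.out⁻¹ * y ^ Function.minimalPeriod (fun x => y • x) o.out * o.out.out = 1
        rw [hp2, pow_two, hy, mul_one, inv_mul_cancel])
      rw [he, map_one])]
    refine Finset.prod_bij' (fun o _ => o.out) (fun q _ => Quotient.mk _ q)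
      (fun o ho => by simpa [F] using ho) (fun q hq => ?_) (fun o _ => Quotient.out_eq o) (fun q hq => ?_)
      (fun o ho => ?_)
    · refine Finset.mem_filter.mpr ⟨Finset.mem_univ _, ?_⟩
      have hq' : y • q = q := (Finset.mem_filter.mp hq).2
      rcases horbit _ q (Quotient.out_eq _) with e | e <;> rw [e]
      · exact hq'
      · rw [hq', hq']
    · have hq' : y • q = q := (Finset.mem_filter.mp hq).2
      rcases horbit _ q (Quotient.out_eq _) with e | e
      · exact e
      · exact e.trans hq'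
    · have hfo : y • o.out = o.out := (Finset.mem_filter.mp ho).2
      have hp1 : Function.minimalPeriod (fun x => y • x) o.out = 1 :=
        Function.minimalPeriod_eq_one_iff_isFixedPt.mpr hfo
      have hmem := hFv o.out (Finset.mem_filter.mpr ⟨Finset.mem_univ _, hfo⟩)
      simp only [v]
      rw [dif_pos hmem]
      refine congrArg φ (Subtype.ext ?_)
      show o.out.out⁻¹ * y ^ Function.minimalPeriod (fun x => y • x) o.out * o.out.out = _
      rw [hp1, pow_one]
  have hsq : ∀ q ∈ F, v q * v q = 1 := fun q hq => by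
    simp only [v]
    rw [dif_pos (hFv q hq), ← map_mul]
    refine (congrArg φ (Subtype.ext ?_)).trans (map_one φ)
    show q.out⁻¹ * y * q.out * (q.out⁻¹ * y * q.out) = 1
    rw [show q.out⁻¹ * y * q.out * (q.out⁻¹ * y * q.out) = q.out⁻¹ * (y * y) * q.out by group, hy, mul_one,
      inv_mul_cancel]
  -- parity of the fibres
  have hmove : ∀ a ∈ Q, ∀ q ∈ F, a • q ∈ F ∧ v (a • q) = v q := by
    intro a ha q hq
    induction q using QuotientGroup.induction_on with
    | _ h =>
      have hp : h⁻¹ * y * h ∈ P := (hfix h).mp (Finset.mem_filter.mp hq).2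
      have he : (a * h)⁻¹ * y * (a * h) = h⁻¹ * y * h := by
        rw [show (a * h)⁻¹ * y * (a * h) = h⁻¹ * (a⁻¹ * (y * a)) * h by group, ← hcomm a ha, inv_mul_cancel_left]
      have hp' : (a * h)⁻¹ * y * (a * h) ∈ P := by rw [he]; exact hp
      rw [MulAction.Quotient.smul_mk, smul_eq_mul]
      refine ⟨Finset.mem_filter.mpr ⟨Finset.mem_univ _, (hfix _).mpr hp'⟩, ?_⟩
      rw [hv h hp, hv (a * h) hp']
      exact congrArg φ (Subtype.ext he)
  have hb : ∀ q : X ⧸ P, (∀ a ∈ Q, a • q = q) → q ∈ F ∧ v q = b := by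
    intro q hq
    induction q using QuotientGroup.induction_on with
    | _ h =>
      have hQP : ∀ a ∈ Q, h⁻¹ * a * h ∈ P := fun a ha => by
        have := hq a ha
        rwa [MulAction.Quotient.smul_mk, smul_eq_mul, eq_comm, QuotientGroup.eq, ← mul_assoc] at this
      refine ⟨Finset.mem_filter.mpr ⟨Finset.mem_univ _, (hfix h).mpr (hQP y hyQ)⟩, ?_⟩
      rw [hv h (hQP y hyQ)]
      exact hall h hQP _
  have hQX : Nat.card (X ⧸ P) % 2 = Nat.card (MulAction.fixedPoints Q (X ⧸ P)) % 2 :=
    hQ.card_modEq_card_fixedPoints (X ⧸ P)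
  have hodd : Nat.card (X ⧸ P) % 2 = 1 := by
    have : Nat.card (X ⧸ P) = P.index := rfl
    omega
  have hpar : ∀ c : B, Nat.card {q : X ⧸ P // q ∈ F ∧ v q = c} % 2 = if c = b then 1 else 0 := by
    intro c
    let Fc : SubMulAction Q (X ⧸ P) :=
      { carrier := {q | q ∈ F ∧ v q = c}
        smul_mem' := fun a q hq => ⟨(hmove a a.2 q hq.1).1, ((hmove a a.2 q hq.1).2).trans hq.2⟩ }
    have h1 : Nat.card Fc % 2 = Nat.card (MulAction.fixedPoints Q Fc) % 2 := hQ.card_modEq_card_fixedPoints Fc
    have h2 : Nat.card Fc = Nat.card {q : X ⧸ P // q ∈ F ∧ v q = c} := rfl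
    rw [← h2, h1]
    split_ifs with hc
    · subst hc
      rw [← hodd, hQX]
      congr 1
      refine Nat.card_congr
        { toFun := fun q => ⟨q.1.1, fun a => congrArg Subtype.val (q.2 a)⟩
          invFun := fun q => ⟨⟨q.1, hb q.1 fun a ha => q.2 ⟨a, ha⟩⟩, fun a => Subtype.ext (q.2 a)⟩
          left_inv := fun q => rfl
          right_inv := fun q => rfl }
    · haveI : IsEmpty (MulAction.fixedPoints Q Fc) := ⟨fun q =>
        hc (q.1.2.2.symm.trans (hb q.1.1 fun a ha => congrArg Subtype.val (q.2 ⟨a, ha⟩)).2)⟩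
      rw [Nat.card_of_isEmpty]
  have hcard : ∀ c : B, (F.filter fun q => v q = c).card % 2 = if c = b then 1 else 0 := fun c => by
    rw [← hpar c]
    congr 1
    rw [Nat.card_eq_fintype_card, Fintype.card_subtype]
    congr 1
    ext q
    simp [F]
  rw [hT, ← Finset.prod_fiberwise_of_maps_to (g := v) (t := F.image v) (fun q hq => Finset.mem_image_of_mem v hq)]
  rw [Finset.prod_congr rfl (g := fun c => if c = b then b else 1) fun c hc => ?_, Finset.prod_ite_eq']
  · refine if_pos ?_
    have := hcard b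
    rw [if_pos rfl] at this
    obtain ⟨q, hq⟩ := Finset.card_pos.mp (show 0 < (F.filter fun q => v q = b).card by omega)
    exact Finset.mem_image.mpr ⟨q, (Finset.mem_filter.mp hq).1, (Finset.mem_filter.mp hq).2⟩
  · rw [Finset.prod_congr rfl (g := fun _ => c) fun q hq => (Finset.mem_filter.mp hq).2, Finset.prod_const]
    obtain ⟨q, hq, rfl⟩ := Finset.mem_image.mp hc
    have h2 : ∀ n : ℕ, v q ^ n = v q ^ (n % 2) := fun n => by
      conv_lhs => rw [← Nat.div_add_mod n 2]
      rw [pow_add, pow_mul, pow_two, hsq q hq, one_pow, one_mul]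
    rw [h2, hcard]
    split_ifs with h
    · rw [pow_one, h]
    · rw [pow_zero]

/-- A homomorphism into an abelian group is trivial on a perfect subgroup. -/
theorem map_eq_one_of_perfect {B : Type*} [CommGroup B] (f : X →* B) {A : Subgroup X} (hA : ⁅A, A⁆ = A) {a : X}
    (ha : a ∈ A) : f a = 1 := by
  have h : A ≤ f.ker := by
    rw [← hA]
    exact (Subgroup.commutator_mono le_top le_top).trans (Abelianization.commutator_subset_ker f)
  exact h ha

/-- Transfer in a perfect group: the common value is trivial. -/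
theorem value_eq_one (hX : commutator X = ⊤) {B : Type*} [CommGroup B] (P : Subgroup X) (hP : ¬ 2 ∣ P.index)
    (φ : P →* B) (y : X) (hy : y * y = 1) (Q : Subgroup X) (hQ : IsPGroup 2 Q) (hyQ : y ∈ Q)
    (hcomm : ∀ q ∈ Q, q * y = y * q) (b : B)
    (hall : ∀ h : X, (∀ q ∈ Q, h⁻¹ * q * h ∈ P) → ∀ hp : h⁻¹ * y * h ∈ P, φ ⟨h⁻¹ * y * h, hp⟩ = b) :
    b = 1 := by
  rw [← transfer_involution P hP φ y hy Q hQ hyQ hcomm b hall]
  exact map_eq_one_of_perfect _ (A := ⊤) (by rw [← commutator_def]; exact hX) (Subgroup.mem_top y)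

/-- The character of a subgroup of index two. -/
noncomputable def indexTwoHom {P : Type*} [Group P] (M : Subgroup P) (hM : M.index = 2) : P →* ℤˣ where
  toFun p := open scoped Classical in if p ∈ M then 1 else -1
  map_one' := if_pos (one_mem M)
  map_mul' a b := by
    classical
    have h := Subgroup.mul_mem_iff_of_index_two hM (a := a) (b := b)
    by_cases ha : a ∈ M <;> by_cases hb : b ∈ M <;> simp [ha, hb, h]

theorem indexTwoHom_mem {P : Type*} [Group P] {M : Subgroup P} (hM : M.index = 2) {p : P} (hp : p ∈ M) :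
    indexTwoHom M hM p = 1 := if_pos hp

theorem indexTwoHom_not_mem {P : Type*} [Group P] {M : Subgroup P} (hM : M.index = 2) {p : P} (hp : p ∉ M) :
    indexTwoHom M hM p = -1 := if_neg hp

end CfsgLib.FourRankOne
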