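import Cfsg.Agent.Lib.FourRankOne.Basic

/-!
# A perfect group with a rank-two Sylow subgroup admits no involutory automorphism swapping a four-group this way
-/

set_option autoImplicit false
set_option linter.unusedSectionVars false
set_option linter.style.haveILetI false

namespace CfsgLib.FourRankOne

variable {G : Type*} [Group G] [Finite G]

/-- Let `P` be a Sylow 2-subgroup of the perfect group `A` with a subgroup `M` of index two with one involution `z`,
the involutions outside `M` being self-centralizing modulo `z`. No involution `u` normalizing `A` centralizes `z`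
and an element `r` of order four with `r * r = z` while swapping an involution `t` and `t * z`. -/
theorem false_of_shape (A P M : Subgroup G) (hA : ⁅A, A⁆ = A) (hP : IsPGroup 2 P) (hPA : P ≤ A)
    (hodd : ¬ 2 ∣ P.relIndex A) (hMP : M ≤ P) (hidx : M.relIndex P = 2) {z r : G} (hzP : z ∈ P) (hrP : r ∈ P)
    (hzc : ∀ x ∈ P, x * z = z * x) (hz2 : z * z = 1) (hz1 : z ≠ 1) (hrr : r * r = z)
    (hMinv : ∀ x ∈ M, x * x = 1 → x = 1 ∨ x = z)
    (hcent : ∀ t ∈ P, t * t = 1 → t ≠ 1 → t ≠ z → ∀ x ∈ P, x * t = t * x → x = 1 ∨ x = z ∨ x = t ∨ x = t * z)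
    (hswap : ∀ t ∈ P, t * t = 1 → t ≠ 1 → t ≠ z → r * t * r⁻¹ = t * z)
    {t : G} (htP : t ∈ P) (htt : t * t = 1) (ht1 : t ≠ 1) (htz : t ≠ z)
    {u : G} (huu : u * u = 1) (huA : ∀ x ∈ A, u * x * u⁻¹ ∈ A) (huz' : u * z = z * u) (hur : u * r = r * u)
    (hut : u * t * u⁻¹ = t * z) : False := by
  classical
  haveI : Fact (Nat.Prime 2) := ⟨Nat.prime_two⟩
  -- transfer
  have hperf : commutator A = ⊤ := Subgroup.map_injective A.subtype_injective (by
    rw [← MonoidHom.range_eq_map, Subgroup.range_subtype, commutator_def, Subgroup.map_commutator,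
      ← MonoidHom.range_eq_map, Subgroup.range_subtype, hA])
  have hMidx : (M.subgroupOf A).index = 2 * P.relIndex A := by
    show M.relIndex A = _
    rw [← Subgroup.relIndex_mul_relIndex M P A hMP hPA, hidx]
  obtain ⟨g₁, hg₁⟩ := exists_conj_mem hperf (M.subgroupOf A) (Nat.odd_iff.mpr (by omega)) hMidx
    (t := ⟨t, (hPA htP)⟩) (Subtype.ext htt)
  have hg₁z : (g₁ : G)⁻¹ * t * g₁ = z := by
    rcases hMinv _ hg₁ (by
      show (g₁ : G)⁻¹ * t * g₁ * ((g₁ : G)⁻¹ * t * g₁) = 1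
      rw [show (g₁ : G)⁻¹ * t * g₁ * ((g₁ : G)⁻¹ * t * g₁) = (g₁ : G)⁻¹ * (t * t) * g₁ by group, htt,
        mul_one, inv_mul_cancel]) with h | h
    · exact absurd (by
        have h' : (g₁ : G)⁻¹ * t * g₁ = 1 := h
        exact (conj_eq_one_iff (a := (g₁ : G)⁻¹)).mp (by rw [inv_inv]; exact h')) ht1
    · exact h
  -- move `g₁⁻¹ z g₁` into `P` inside the centralizer of `z`
  obtain ⟨g, hgA, hgz, hgP⟩ : ∃ g ∈ A, g⁻¹ * t * g = z ∧ g⁻¹ * z * g ∈ P := by
    set z' := (g₁ : G)⁻¹ * z * g₁ with hz'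
    have hz'A : z' ∈ A := mul_mem (mul_mem (inv_mem g₁.2) (hPA hzP)) g₁.2
    have hz'z : z' * z = z * z' := by
      have hcm : ∀ a b : G, a * b = b * a →
          ((g₁ : G)⁻¹ * a * g₁) * ((g₁ : G)⁻¹ * b * g₁) = ((g₁ : G)⁻¹ * b * g₁) * ((g₁ : G)⁻¹ * a * g₁) :=
        fun a b h => by
          rw [show (g₁ : G)⁻¹ * a * g₁ * ((g₁ : G)⁻¹ * b * g₁) = (g₁ : G)⁻¹ * (a * b) * g₁ by group, h]
          group
      have h := hcm z t (hzc t htP).symm
      rwa [hg₁z] at h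
    have hz'2 : z' * z' = 1 := by
      rw [hz', show (g₁ : G)⁻¹ * z * g₁ * ((g₁ : G)⁻¹ * z * g₁) = (g₁ : G)⁻¹ * (z * z) * g₁ by group,
        hz2, mul_one, inv_mul_cancel]
    have hp : IsPGroup 2 (Subgroup.zpowers z') := by
      rintro ⟨x, hx⟩
      obtain ⟨i, rfl⟩ := Subgroup.mem_zpowers_iff.mp hx
      refine ⟨1, Subtype.ext ?_⟩
      show (z' ^ i) ^ (2 ^ 1) = 1
      rw [pow_one, ← zpow_natCast, ← zpow_mul, mul_comm i, zpow_mul, Nat.cast_ofNat, zpow_two, hz'2, one_zpow]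
    obtain ⟨c, hc, hcP⟩ := conj_into A P hP hodd (A ⊓ Subgroup.centralizer {z})
      (le_inf hPA fun x hx => Subgroup.mem_centralizer_singleton_iff.mpr (hzc x hx))
      inf_le_left _ hp (Subgroup.zpowers_le.mpr ⟨hz'A, Subgroup.mem_centralizer_singleton_iff.mpr hz'z⟩)
    refine ⟨g₁ * c⁻¹, mul_mem g₁.2 (inv_mem hc.1), ?_, ?_⟩
    · calc ((g₁ : G) * c⁻¹)⁻¹ * t * ((g₁ : G) * c⁻¹) = c * ((g₁ : G)⁻¹ * t * g₁) * c⁻¹ := by group
        _ = z := by rw [hg₁z, Subgroup.mem_centralizer_singleton_iff.mp hc.2, mul_inv_cancel_right]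
    · have h := hcP z' (Subgroup.mem_zpowers z')
      rwa [hz', show c * ((g₁ : G)⁻¹ * z * g₁) * c⁻¹ = ((g₁ : G) * c⁻¹)⁻¹ * z * ((g₁ : G) * c⁻¹) by group] at h
  have htg : g * z * g⁻¹ = t := by rw [← hgz]; group
  -- the element permuting `z`, `t`, `t z` cyclically
  obtain ⟨g₀, hg₀A, hg₀z, hg₀t⟩ : ∃ g₀ ∈ A, g₀ * z * g₀⁻¹ = t ∧ g₀ * t * g₀⁻¹ = t * z := by
    set z'' := g⁻¹ * z * g with hz''
    have h2 : z'' * z'' = 1 := by
      rw [hz'', show g⁻¹ * z * g * (g⁻¹ * z * g) = g⁻¹ * (z * z) * g by group, hz2, mul_one,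
        inv_mul_cancel]
    have hgz'' : g * z'' * g⁻¹ = z := by rw [hz'']; group
    have h1 : z'' ≠ 1 := fun h => hz1 (by rw [← hgz'', h, mul_one, mul_inv_cancel])
    have h3 : z'' ≠ z := fun h => htz (htg.symm.trans ((congrArg (g * · * g⁻¹) h.symm).trans hgz''))
    have hs := hswap z'' hgP h2 h1 h3
    refine ⟨r * (g * r * g⁻¹), mul_mem (hPA hrP) (mul_mem (mul_mem hgA (hPA hrP)) (inv_mem hgA)), ?_, ?_⟩
    · have e : g * r * g⁻¹ * z * (g * r * g⁻¹)⁻¹ = z * t := by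
        calc g * r * g⁻¹ * z * (g * r * g⁻¹)⁻¹ = g * (r * z'' * r⁻¹) * g⁻¹ := by rw [hz'']; group
          _ = (g * z'' * g⁻¹) * (g * z * g⁻¹) := by rw [hs]; group
          _ = z * t := by rw [hgz'', htg]
      calc r * (g * r * g⁻¹) * z * (r * (g * r * g⁻¹))⁻¹
          = r * (g * r * g⁻¹ * z * (g * r * g⁻¹)⁻¹) * r⁻¹ := by group
        _ = (r * z * r⁻¹) * (r * t * r⁻¹) := by rw [e]; group
        _ = z * (t * z) := by rw [hswap t htP htt ht1 htz, hzc r hrP, mul_inv_cancel_right]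
        _ = t := by rw [hzc t htP, ← mul_assoc, hz2, one_mul]
    · have e : g * r * g⁻¹ * t * (g * r * g⁻¹)⁻¹ = t := by
        calc g * r * g⁻¹ * t * (g * r * g⁻¹)⁻¹ = g * (r * (g⁻¹ * t * g) * r⁻¹) * g⁻¹ := by group
          _ = t := by rw [hgz, hzc r hrP, mul_inv_cancel_right, htg]
      calc r * (g * r * g⁻¹) * t * (r * (g * r * g⁻¹))⁻¹
          = r * (g * r * g⁻¹ * t * (g * r * g⁻¹)⁻¹) * r⁻¹ := by group
        _ = t * z := by rw [e, hswap t htP htt ht1 htz]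
  -- the element `v`
  have huz : u * z = z * u := huz'
  have huinv : u⁻¹ = u := inv_eq_of_mul_eq_one_right huu
  set v := u * r with hv
  have hvv : v * v = z := by
    rw [hv, mul_assoc, ← mul_assoc r, ← hur, ← mul_assoc u, ← mul_assoc u, huu, one_mul, hrr]
  have hvz : v * z = z * v := by rw [hv, mul_assoc, hzc r hrP, ← mul_assoc, huz, mul_assoc]
  have hvt : v * t = t * v := by
    refine mul_inv_eq_iff_eq_mul.mp ?_
    calc v * t * v⁻¹ = u * (r * t * r⁻¹) * u⁻¹ := by rw [hv]; group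
      _ = (u * t * u⁻¹) * (u * z * u⁻¹) := by rw [hswap t htP htt ht1 htz]; group
      _ = t := by rw [hut, huz, mul_inv_cancel_right, mul_assoc, hz2, mul_one]
  -- the centralizer of the four-group in `A ∪ u A`
  let H : Subgroup G :=
    { carrier := {x | x ∈ A ∨ u * x ∈ A}
      one_mem' := Or.inl (one_mem A)
      mul_mem' := by
        rintro x y (hx | hx) (hy | hy)
        · exact Or.inl (mul_mem hx hy)
        · refine Or.inr ?_
          rw [show u * (x * y) = (u * x * u⁻¹) * (u * y) by group]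
          exact mul_mem (huA x hx) hy
        · exact Or.inr (by rw [← mul_assoc]; exact mul_mem hx hy)
        · refine Or.inl ?_
          rw [show x * y = (u⁻¹ * (u * x) * u) * (u⁻¹ * u⁻¹ * (u * y)) by group, ← mul_inv_rev, huu, inv_one,
            one_mul]
          refine mul_mem ?_ hy
          have := huA (u * x) hx
          rwa [huinv] at this ⊢
      inv_mem' := by
        rintro x (hx | hx)
        · exact Or.inl (inv_mem hx)
        · refine Or.inr ?_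
          rw [show u * x⁻¹ = u * (u * x)⁻¹ * u⁻¹ * (u * u) by group, huu, mul_one]
          exact huA _ (inv_mem hx) }
  let C : Subgroup G := H ⊓ Subgroup.centralizer ({z, t} : Set G)
  have hCmem : ∀ x, x ∈ H → x * z = z * x → x * t = t * x → x ∈ C := fun x h h1 h2 =>
    ⟨h, Subgroup.mem_centralizer_iff.mpr (by rintro y (rfl | rfl); exacts [h1.symm, h2.symm])⟩
  have hvC : v ∈ C := hCmem v (Or.inr (by rw [hv, ← mul_assoc, huu, one_mul]; exact (hPA hrP))) hvz hvt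
  have hCz : ∀ x ∈ C, x * z = z * x := fun x hx =>
    (Subgroup.mem_centralizer_iff.mp hx.2 z (by simp)).symm
  have hCt : ∀ x ∈ C, x * t = t * x := fun x hx => (Subgroup.mem_centralizer_iff.mp hx.2 t (by simp)).symm
  have htC : t ∈ C := hCmem t (Or.inl (hPA htP)) (hzc t htP) rfl
  have hp4 : ∀ y : G, y * y * (y * y) = 1 → IsPGroup 2 (Subgroup.zpowers y) := by
    rintro y hy ⟨x, hx⟩
    obtain ⟨i, rfl⟩ := Subgroup.mem_zpowers_iff.mp hx
    refine ⟨2, Subtype.ext ?_⟩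
    show (y ^ i) ^ (2 ^ 2) = 1
    rw [← zpow_natCast, ← zpow_mul, mul_comm i, zpow_mul,
      show y ^ (((2 ^ 2 : ℕ) : ℤ)) = y * y * (y * y) by rw [zpow_natCast]; simp [pow_succ, mul_assoc], hy, one_zpow]
  obtain ⟨Q₀, hQ₀⟩ := IsPGroup.exists_le_sylow (P := (Subgroup.zpowers v).subgroupOf C)
    ((hp4 v (by rw [hvv, hz2])).of_equiv (Subgroup.subgroupOfEquivOfLe (Subgroup.zpowers_le.mpr hvC)).symm)
  let Q : Subgroup G := (Q₀ : Subgroup C).map C.subtype
  have hQ : IsPGroup 2 Q := Q₀.2.map _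
  have hQC : Q ≤ C := Subgroup.map_subtype_le _
  have hvQ : v ∈ Q := ⟨⟨v, hvC⟩, hQ₀ (Subgroup.mem_zpowers v), rfl⟩
  have hzQ : z ∈ Q := hvv ▸ mul_mem hvQ hvQ
  have hinto : ∀ y ∈ C, IsPGroup 2 (Subgroup.zpowers y) → ∃ c ∈ C, c * y * c⁻¹ ∈ Q := by
    intro y hy hp
    obtain ⟨R, hR⟩ := IsPGroup.exists_le_sylow (P := (Subgroup.zpowers y).subgroupOf C)
      (hp.of_equiv (Subgroup.subgroupOfEquivOfLe (Subgroup.zpowers_le.mpr hy)).symm)
    obtain ⟨c, hc⟩ := MulAction.exists_smul_eq C R Q₀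
    refine ⟨c, c.2, ⟨MulAut.conj c (⟨y, hy⟩ : C), ?_, rfl⟩⟩
    rw [← hc, Sylow.coe_subgroup_smul]
    exact Subgroup.smul_mem_pointwise_smul _ _ _ (hR (Subgroup.mem_zpowers y))
  have htQ : t ∈ Q := by
    obtain ⟨c, hc, h⟩ := hinto t htC (hp4 t (by rw [htt, one_mul]))
    rwa [hCt c hc, mul_inv_cancel_right] at h
  have hQA : ∀ x ∈ Q, x ∈ A → x = 1 ∨ x = z ∨ x = t ∨ x = t * z := by
    intro x hx hxA
    obtain ⟨h, -, hh⟩ := conj_into A P hP hodd A hPA le_rfl (Q ⊓ A) (hQ.to_le inf_le_left) inf_le_right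
    have hz0 := hh z ⟨hzQ, (hPA hzP)⟩
    have ht0 := hh t ⟨htQ, (hPA htP)⟩
    have hx0 := hh x ⟨hx, hxA⟩
    have hsq : ∀ y, y * y = 1 → h * y * h⁻¹ * (h * y * h⁻¹) = 1 := fun y hy => by
      rw [conj_mul, hy, mul_one, mul_inv_cancel]
    have hcm : ∀ y, x * y = y * x → h * x * h⁻¹ * (h * y * h⁻¹) = h * y * h⁻¹ * (h * x * h⁻¹) := fun y hy => by
      rw [conj_mul, hy, conj_mul]
    have hinj : ∀ y, h * x * h⁻¹ = h * y * h⁻¹ → x = y := fun y hy => mul_left_cancel (mul_right_cancel hy)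
    have hne1 : ∀ y, y ≠ 1 → h * y * h⁻¹ ≠ 1 := fun y hy h' => hy (conj_eq_one_iff.mp h')
    by_cases hzz : h * z * h⁻¹ = z
    · have htne : h * t * h⁻¹ ≠ z := fun h' => htz (mul_left_cancel (mul_right_cancel (h'.trans hzz.symm)))
      rcases hcent _ ht0 (hsq t htt) (hne1 t ht1) htne _ hx0 (hcm t (hCt x (hQC hx))) with e | e | e | e
      · exact Or.inl (conj_eq_one_iff.mp e)
      · exact Or.inr (Or.inl (hinj _ (e.trans hzz.symm)))
      · exact Or.inr (Or.inr (Or.inl (hinj _ e)))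
      · exact Or.inr (Or.inr (Or.inr (hinj _ (by rw [e, ← conj_mul, hzz]))))
    · have key := hcent _ hz0 (hsq z hz2) (hne1 z hz1) hzz
      have htz' : h * t * h⁻¹ * (h * z * h⁻¹) = h * z * h⁻¹ * (h * t * h⁻¹) := by
        rw [conj_mul, conj_mul, hzc t htP]
      have hne : h * t * h⁻¹ ≠ h * z * h⁻¹ := fun h' => htz (mul_left_cancel (mul_right_cancel h'))
      rcases key _ ht0 htz' with e' | e' | e' | e'
      · exact absurd e' (hne1 t ht1)
      · rcases key _ hx0 (hcm z (hCz x (hQC hx))) with e | e | e | e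
        · exact Or.inl (conj_eq_one_iff.mp e)
        · exact Or.inr (Or.inr (Or.inl (hinj _ (e.trans e'.symm))))
        · exact Or.inr (Or.inl (hinj _ e))
        · exact Or.inr (Or.inr (Or.inr (hinj _ (by rw [e, ← conj_mul, e', hzc _ hz0]))))
      · exact absurd e' hne
      · rcases key _ hx0 (hcm z (hCz x (hQC hx))) with e | e | e | e
        · exact Or.inl (conj_eq_one_iff.mp e)
        · refine Or.inr (Or.inr (Or.inr (hinj _ ?_)))
          rw [e, ← conj_mul, e', mul_assoc, ← hzc _ hz0, ← mul_assoc, hsq z hz2, one_mul]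
        · exact Or.inr (Or.inl (hinj _ e))
        · exact Or.inr (Or.inr (Or.inl (hinj _ (e.trans e'.symm))))
  -- an element of `C` squaring to `t`
  set v' := g₀ * v * g₀⁻¹ with hv'
  have hv'2 : v' * v' = t := by rw [hv', conj_mul, hvv, hg₀z]
  have hv'C : v' ∈ C := by
    have hH : g₀ ∈ H := Or.inl hg₀A
    have hct : v' * t = t * v' := by rw [← hg₀z, hv', conj_mul, hvz, conj_mul]
    have hctz : v' * (t * z) = t * z * v' := by rw [← hg₀t, hv', conj_mul, hvt, conj_mul]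
    refine hCmem v' (mul_mem (mul_mem hH hvC.1) (inv_mem hH)) ?_ hct
    calc v' * z = v' * (t * (t * z)) := by rw [← mul_assoc t t, htt, one_mul]
      _ = t * (t * z) * v' := by rw [← mul_assoc, hct, mul_assoc, hctz, ← mul_assoc]
      _ = z * v' := by rw [← mul_assoc t t, htt, one_mul]
  obtain ⟨c, hc, hcQ⟩ := hinto v' hv'C (hp4 v' (by rw [hv'2, htt]))
  have hw2 : c * v' * c⁻¹ * (c * v' * c⁻¹) = t := by rw [conj_mul, hv'2, hCt c hc, mul_inv_cancel_right]
  generalize c * v' * c⁻¹ = w at hcQ hw2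
  have hfour : ∀ y : G, (y = 1 ∨ y = z ∨ y = t ∨ y = t * z) → y * y = 1 ∧ v * y = y * v := by
    rintro y (rfl | rfl | rfl | rfl)
    · exact ⟨one_mul 1, (Commute.one_right v).eq⟩
    · exact ⟨hz2, hvz⟩
    · exact ⟨htt, hvt⟩
    · exact ⟨by rw [mul_assoc, ← mul_assoc z, ← hzc t htP, mul_assoc t z, hz2, mul_one, htt],
        ((show Commute v t from hvt).mul_right hvz).eq⟩
  by_cases hwA : w ∈ A
  · exact ht1 (hw2.symm.trans (hfour w (hQA w hcQ hwA)).1)
  · have hy : v⁻¹ * w ∈ A := by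
      have huw := ((hQC hcQ).1).resolve_left hwA
      rw [show v⁻¹ * w = r⁻¹ * (u⁻¹ * w) by rw [hv]; group, huinv]
      exact mul_mem (inv_mem (hPA hrP)) huw
    obtain ⟨h1, h2⟩ := hfour _ (hQA _ (mul_mem (inv_mem hvQ) hcQ) hy)
    refine htz ?_
    rw [← hw2, show w = v * (v⁻¹ * w) by group]
    generalize v⁻¹ * w = y at h1 h2
    rw [show v * y * (v * y) = v * (y * v) * y by group, ← h2, ← mul_assoc v v, hvv, mul_assoc, h1, mul_one]

end CfsgLib.FourRankOne
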