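import Cfsg.Prelude.Def_CaseTheorems
import Cfsg.Agent.Lib.FourRankOne.Shape
import Cfsg.Agent.Lib.FourRankOne.Endgame

/-!
# Four-groups acting on perfect groups with normalizers of 2-rank one

If a four-group `U` normalizes a perfect group `A` and the subgroup generated by the normalizers in `A` of
the non-trivial subgroups of `U` contains no four-group, then `A` contains no four-group.
-/

set_option autoImplicit false
set_option linter.unusedSectionVars false
set_option linter.style.haveILetI false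

namespace CfsgLib.FourRankOne

variable {G : Type*} [Group G] [Finite G]

/-- Two of three elements of a four-group centralize an element they move only by a central involution. -/
theorem exists_centralizing {U : Subgroup G} (hU : IsKleinFour U) {w z : G}
    (hz : ∀ u ∈ U, u * z = z * u) (hz2 : z * z = 1)
    (hw : ∀ u ∈ U, u * w * u⁻¹ = w ∨ u * w * u⁻¹ = w * z) :
    ∃ u ∈ U, u ≠ 1 ∧ u * w = w * u := by
  haveI := hU
  haveI : Nontrivial U := Finite.one_lt_card_iff_nontrivial.mp (by rw [IsKleinFour.card_four]; norm_num)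
  haveI : Fintype U := Fintype.ofFinite U
  classical
  by_contra hcon
  push Not at hcon
  have hmove : ∀ u ∈ U, u ≠ 1 → u * w * u⁻¹ = w * z := fun u hu hu1 =>
    (hw u hu).resolve_left fun h => hcon u hu hu1 (mul_inv_eq_iff_eq_mul.mp h)
  obtain ⟨u₁, hu₁⟩ := exists_ne (1 : U)
  obtain ⟨u₂, hu₂, hu₂'⟩ : ∃ u₂ : U, u₂ ≠ 1 ∧ u₂ ≠ u₁ := by
    by_contra h
    push Not at h
    have h' : (Finset.univ : Finset U) ⊆ {1, u₁} := fun x _ => by
      by_cases hx : x = 1
      · simp [hx]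
      · simp [h x hx]
    have := Finset.card_le_card h'
    rw [Finset.card_univ, Fintype.card_eq_nat_card, IsKleinFour.card_four] at this
    exact absurd (this.trans Finset.card_le_two) (by norm_num)
  have h12 : (u₁ : G) * u₂ ≠ 1 := fun h => by
    have h' : u₁ * u₂ = 1 := Subtype.ext h
    exact hu₂' ((eq_inv_of_mul_eq_one_right h').trans (IsKleinFour.inv_eq_self u₁))
  have e := hmove _ (mul_mem u₁.2 u₂.2) h12
  have e1 := hmove _ u₁.2 (fun h => hu₁ (Subtype.ext h))
  have e2 := hmove _ u₂.2 (fun h => hu₂ (Subtype.ext h))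
  rw [show (u₁ : G) * u₂ * w * ((u₁ : G) * u₂)⁻¹ = u₁ * (u₂ * w * (u₂ : G)⁻¹) * (u₁ : G)⁻¹ by group, e2,
    ← conj_mul, e1, hz _ u₁.2, mul_inv_cancel_right, mul_assoc, hz2, mul_one] at e
  have hz1 : z = 1 := mul_eq_left.mp e.symm
  rw [hz1, mul_one] at e1
  exact hcon _ u₁.2 (fun h => hu₁ (Subtype.ext h)) (mul_inv_eq_iff_eq_mul.mp e1)

/-- There are no commuting involutions `z ≠ w` of `A` centralized by a non-trivial element of `U`. -/
theorem false_of_centralized {A U : Subgroup G}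
    (hΓ : Cfsg.PRankLE 2 1 ↥(⨆ V : {V : Subgroup G // V ≤ U ∧ V ≠ ⊥},
      A ⊓ Subgroup.normalizer ((V : Subgroup G) : Set G)))
    {u z w : G} (hu : u ∈ U) (hu1 : u ≠ 1) (hzA : z ∈ A) (hwA : w ∈ A) (hz : z * z = 1) (hw : w * w = 1)
    (hz1 : z ≠ 1) (hw1 : w ≠ 1) (hne : w ≠ z) (hzw : z * w = w * z) (huz : u * z = z * u)
    (huw : u * w = w * u) : False := by
  classical
  set Γ := ⨆ V : {V : Subgroup G // V ≤ U ∧ V ≠ ⊥}, A ⊓ Subgroup.normalizer ((V : Subgroup G) : Set G)
  have hmem : ∀ x ∈ A, u * x = x * u → x ∈ Γ := fun x hx hxu => by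
    refine le_iSup (fun V : {V : Subgroup G // V ≤ U ∧ V ≠ ⊥} =>
      A ⊓ Subgroup.normalizer ((V : Subgroup G) : Set G))
      ⟨Subgroup.zpowers u, Subgroup.zpowers_le.mpr hu, Subgroup.zpowers_ne_bot.mpr hu1⟩ ⟨hx, ?_⟩
    refine Subgroup.centralizer_le_normalizer _ ?_
    intro y hy
    obtain ⟨i, rfl⟩ := Subgroup.mem_zpowers_iff.mp hy
    exact ((show Commute u x from hxu).zpow_left i).eq
  let z' : Γ := ⟨z, hmem z hzA huz⟩
  let w' : Γ := ⟨w, hmem w hwA huw⟩
  let B := Subgroup.closure ({z', w'} : Set Γ)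
  have hBc : IsMulCommutative B := Subgroup.isMulCommutative_closure (by
    rintro a (rfl | rfl) b (rfl | rfl)
    · rfl
    · exact Subtype.ext hzw
    · exact Subtype.ext hzw.symm
    · rfl)
  have hB2 : ∀ a ∈ B, a ^ 2 = 1 := by
    intro a ha
    induction ha using Subgroup.closure_induction with
    | mem x hx =>
      rcases hx with rfl | rfl
      · exact Subtype.ext (by simpa [pow_two] using hz)
      · exact Subtype.ext (by simpa [pow_two] using hw)
    | one => exact one_pow 2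
    | mul x y hx hy ix iy =>
      have hxy : Commute x y := congrArg Subtype.val (mul_comm' (⟨x, hx⟩ : B) ⟨y, hy⟩)
      rw [hxy.mul_pow, ix, iy, mul_one]
    | inv x _ ix => rw [inv_pow, ix, inv_one]
  have h2 := hΓ B hBc hB2
  haveI : Fintype B := Fintype.ofFinite _
  have hl : ([1, ⟨z', Subgroup.subset_closure (by simp)⟩, ⟨w', Subgroup.subset_closure (by simp)⟩] : List B).Nodup := by
    simp only [List.nodup_cons, List.mem_cons, List.not_mem_nil, or_false, List.nodup_nil, and_true,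
      not_false_eq_true, Subtype.ext_iff, OneMemClass.coe_one, z', w']
    exact ⟨fun h => h.elim (fun h => hz1 h.symm) (fun h => hw1 h.symm), Ne.symm hne⟩
  have := hl.length_le_card
  rw [Fintype.card_eq_nat_card] at this
  simp only [List.length_cons, List.length_nil] at this
  omega

/-- Elements of order two among those killed by squaring, two of them. -/
theorem exists_two_involutions {X : Type*} [Group X] [Finite X] (h : ¬ Cfsg.PRankLE 2 1 X) :
    ∃ a b : X, a * a = 1 ∧ b * b = 1 ∧ a ≠ 1 ∧ b ≠ 1 ∧ a ≠ b ∧ a * b = b * a := by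
  simp only [Cfsg.PRankLE, not_forall, not_le] at h
  obtain ⟨B, hBc, hB2, hcard⟩ := h
  haveI : Nontrivial B := Finite.one_lt_card_iff_nontrivial.mp (by omega)
  obtain ⟨a, ha⟩ := exists_ne (1 : B)
  haveI : Fintype B := Fintype.ofFinite B
  classical
  obtain ⟨b, hb, hb'⟩ : ∃ b : B, b ≠ 1 ∧ b ≠ a := by
    by_contra h
    push Not at h
    have h' : (Finset.univ : Finset B) ⊆ {1, a} := fun x _ => by
      by_cases hx : x = 1
      · simp [hx]
      · simp [h x hx]
    have := Finset.card_le_card h'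
    rw [Finset.card_univ, Fintype.card_eq_nat_card] at this
    have := this.trans Finset.card_le_two
    omega
  exact ⟨a, b, by rw [← pow_two]; exact hB2 a a.2, by rw [← pow_two]; exact hB2 b b.2,
    fun h => ha (Subtype.ext h), fun h => hb (Subtype.ext h), fun h => hb' (Subtype.ext h.symm),
    congrArg Subtype.val (mul_comm' a b)⟩

/-- The main argument. -/
theorem prankLE_one (A U : Subgroup G) (hA : ⁅A, A⁆ = A) (hU : IsKleinFour U)
    (hUA : U ≤ Subgroup.normalizer (A : Set G))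
    (hΓ : Cfsg.PRankLE 2 1 ↥(⨆ V : {V : Subgroup G // V ≤ U ∧ V ≠ ⊥},
      A ⊓ Subgroup.normalizer ((V : Subgroup G) : Set G))) : Cfsg.PRankLE 2 1 A := by
  classical
  haveI : Fact (Nat.Prime 2) := ⟨Nat.prime_two⟩
  by_contra hrank
  obtain ⟨⟨a₁, ha₁⟩, ⟨a₂, ha₂⟩, q1, q2, q3, q4, q5, q6⟩ := exists_two_involutions hrank
  replace q1 : a₁ * a₁ = 1 := congrArg Subtype.val q1
  replace q2 : a₂ * a₂ = 1 := congrArg Subtype.val q2
  replace q3 : a₁ ≠ 1 := fun h => q3 (Subtype.ext h)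
  replace q4 : a₂ ≠ 1 := fun h => q4 (Subtype.ext h)
  replace q5 : a₁ ≠ a₂ := fun h => q5 (Subtype.ext h)
  replace q6 : a₁ * a₂ = a₂ * a₁ := congrArg Subtype.val q6
  -- a `U`-invariant Sylow subgroup
  let J : Subgroup G := A ⊔ U
  have hJA : J ≤ Subgroup.normalizer (A : Set G) := sup_le Subgroup.le_normalizer hUA
  haveI := hU
  have hUp : IsPGroup 2 U := IsPGroup.of_card (n := 2) (by rw [IsKleinFour.card_four]; norm_num)
  obtain ⟨S', hS'⟩ := IsPGroup.exists_le_sylow
    (P := U.subgroupOf J) (hUp.of_equiv (Subgroup.subgroupOfEquivOfLe (le_sup_right : U ≤ J)).symm)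
  let S : Subgroup G := (S' : Subgroup J).map J.subtype
  have hSJ : S ≤ J := Subgroup.map_subtype_le _
  have hUS : U ≤ S := fun u hu => ⟨⟨u, le_sup_right (a := A) hu⟩, hS' hu, rfl⟩
  have hS : IsPGroup 2 S := S'.2.map _
  let P : Subgroup G := S ⊓ A
  have hP : IsPGroup 2 P := hS.to_le inf_le_left
  have hodd : ¬ 2 ∣ P.relIndex A := by
    -- a Sylow subgroup of `A` is conjugate under `J` into `P`
    let T0 : Sylow 2 A := default
    have hTA : (T0 : Subgroup A).map A.subtype ≤ A := Subgroup.map_subtype_le _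
    obtain ⟨R, hR⟩ := IsPGroup.exists_le_sylow (P := ((T0 : Subgroup A).map A.subtype).subgroupOf J)
      ((T0.2.map A.subtype).of_equiv (Subgroup.subgroupOfEquivOfLe (hTA.trans le_sup_left)).symm)
    obtain ⟨j, hj⟩ := MulAction.exists_smul_eq J R S'
    have hmem : ∀ x : T0, ((j : J) : G) * ((x : A) : G) * ((j : J) : G)⁻¹ ∈ P := fun x => by
      refine ⟨⟨MulAut.conj j (⟨((x : A) : G), le_sup_left (b := U) (x : A).2⟩ : J), ?_, rfl⟩,
        (Subgroup.mem_normalizer_iff.mp (hJA j.2) _).mp (x : A).2⟩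
      rw [← hj, Sylow.coe_subgroup_smul]
      exact Subgroup.smul_mem_pointwise_smul _ _ _ (hR ⟨(x : A), x.2, rfl⟩)
    have hle : Nat.card T0 ≤ Nat.card (P.subgroupOf A) := by
      rw [Nat.card_congr (Subgroup.subgroupOfEquivOfLe (inf_le_right : P ≤ A)).toEquiv]
      refine Nat.card_le_card_of_injective (fun x => (⟨_, hmem x⟩ : P)) fun x y h => ?_
      have h' := congrArg Subtype.val h
      simp only [mul_left_inj, mul_right_inj] at h'
      exact Subtype.ext (Subtype.ext h')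
    obtain ⟨T1, hT1⟩ := (hP.of_equiv (Subgroup.subgroupOfEquivOfLe (inf_le_right : P ≤ A)).symm).exists_le_sylow
    have heq : P.subgroupOf A = (T1 : Subgroup A) := Subgroup.eq_of_le_of_card_ge hT1 (by
      rw [T1.card_eq_multiplicity, ← T0.card_eq_multiplicity]; exact hle)
    show ¬ 2 ∣ (P.subgroupOf A).index
    rw [heq]
    exact T1.not_dvd_index
  -- the shape
  have hSn : S ≤ Subgroup.normalizer (A : Set G) := hSJ.trans hJA
  let PT : Subgroup S := A.subgroupOf S
  haveI : PT.Normal := ⟨fun x hx g => (Subgroup.mem_normalizer_iff.mp (hSn g.2) _).mp hx⟩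
  have hno : ∀ z ∈ PT, ∀ w ∈ PT, z * z = 1 → z ≠ 1 → w * w = 1 → w ≠ 1 → w ≠ z →
      (∀ g, g * z = z * g) → (∀ g, g * w * g⁻¹ = w ∨ g * w * g⁻¹ = w * z) → False := by
    intro z hz w hw hz2 hz1 hw2 hw1 hne hzc hwc
    have hzc' : ∀ u ∈ U, u * (z : G) = z * u := fun u hu => congrArg Subtype.val (hzc ⟨u, hUS hu⟩)
    obtain ⟨u, hu, hu1, huw⟩ := exists_centralizing hU hzc' (congrArg Subtype.val hz2)
      fun u hu => (hwc ⟨u, hUS hu⟩).imp (congrArg Subtype.val) (congrArg Subtype.val)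
    exact false_of_centralized hΓ hu hu1 hz hw (congrArg Subtype.val hz2) (congrArg Subtype.val hw2)
      (fun h => hz1 (Subtype.ext h)) (fun h => hw1 (Subtype.ext h)) (fun h => hne (Subtype.ext h))
      (congrArg Subtype.val (hzc w)).symm (hzc' u hu) huw
  -- two commuting involutions in `P`
  have hX : IsPGroup 2 (Subgroup.closure ({a₁, a₂} : Set G)) := by
    refine fun ⟨x, hx⟩ => ⟨1, Subtype.ext ?_⟩
    haveI : IsMulCommutative (Subgroup.closure ({a₁, a₂} : Set G)) := Subgroup.isMulCommutative_closure (by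
      rintro a (rfl | rfl) b (rfl | rfl)
      · rfl
      · exact q6
      · exact q6.symm
      · rfl)
    show x ^ (2 ^ 1) = 1
    induction hx using Subgroup.closure_induction with
    | mem y hy => rcases hy with rfl | rfl <;> simp [pow_two, q1, q2]
    | one => exact one_pow _
    | mul y w hy hw iy iw =>
      have hyw : Commute y w := congrArg Subtype.val (mul_comm'
        (⟨y, hy⟩ : Subgroup.closure ({a₁, a₂} : Set G)) ⟨w, hw⟩)
      rw [hyw.mul_pow, iy, iw, mul_one]
    | inv y _ iy => rw [inv_pow, iy, inv_one]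
  have hXA : Subgroup.closure ({a₁, a₂} : Set G) ≤ A := (Subgroup.closure_le _).mpr (by
    rintro x (rfl | rfl) <;> assumption)
  obtain ⟨h₀, -, hh₀⟩ := conj_into A P hP hodd A inf_le_right le_rfl _ hX hXA
  have hb₁ := hh₀ a₁ (Subgroup.subset_closure (by simp))
  have hb₂ := hh₀ a₂ (Subgroup.subset_closure (by simp))
  have sq : ∀ a, a * a = 1 → (h₀ * a * h₀⁻¹) * (h₀ * a * h₀⁻¹) = 1 := fun a ha => by
    rw [conj_mul, ha, mul_one, mul_inv_cancel]
  obtain ⟨Sh⟩ := exists_shape hS PT hno (e₁ := ⟨_, hb₁.1⟩) (e₂ := ⟨_, hb₂.1⟩) hb₁.2 hb₂.2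
    (Subtype.ext (sq a₁ q1)) (Subtype.ext (sq a₂ q2))
    (fun h => q3 (conj_eq_one_iff.mp (congrArg Subtype.val h)))
    (fun h => q4 (conj_eq_one_iff.mp (congrArg Subtype.val h)))
    (fun h => q5 (by simpa using congrArg Subtype.val h))
  obtain ⟨A0, z, r, hA0, hidx, hzA0, hz2', hz1', hzc', hrA0, hrr', hinv, hrconj, -, -, hcent', hswap', hfix', -, -⟩ := Sh
  have hzA : (z : G) ∈ A := hA0 hzA0
  have hrA : (r : G) ∈ A := hA0 hrA0
  have hzS : ∀ x ∈ S, x * (z : G) = z * x := fun x hx => congrArg Subtype.val (hzc' ⟨x, hx⟩)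
  have hz2 : (z : G) * z = 1 := congrArg Subtype.val hz2'
  have hz1 : (z : G) ≠ 1 := fun h => hz1' (Subtype.ext h)
  have hrr : (r : G) * r = z := congrArg Subtype.val hrr'
  -- the subgroup of index two and the elements outside
  let M : Subgroup G := A0.map S.subtype
  have hMP : M ≤ P := fun x hx => by
    obtain ⟨y, hy, rfl⟩ := Subgroup.mem_map.mp hx
    exact ⟨y.2, hA0 hy⟩
  have hMinv : ∀ x ∈ M, x * x = 1 → x = 1 ∨ x = z := by
    intro x hx hxx
    obtain ⟨y, hy, rfl⟩ := Subgroup.mem_map.mp hx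
    exact (hinv y hy (Subtype.ext hxx)).imp (congrArg Subtype.val) (congrArg Subtype.val)
  have hout : ∀ x ∈ P, x * x = 1 → x ≠ 1 → x ≠ z → x ∉ M := fun x _ hxx h1 h2 hx =>
    (hMinv x hx hxx).elim h1 h2
  have hcent : ∀ t ∈ P, t * t = 1 → t ≠ 1 → t ≠ (z : G) → ∀ x ∈ P, x * t = t * x →
      x = 1 ∨ x = z ∨ x = t ∨ x = t * z := by
    intro t ht htt h1 h2 x hx hxt
    have := hcent' ⟨t, ht.1⟩ ht.2 (fun h => hout t ht htt h1 h2 ⟨_, h, rfl⟩) (Subtype.ext htt)
      ⟨x, hx.1⟩ hx.2 (Subtype.ext hxt)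
    simpa [Subtype.ext_iff] using this
  have hswap : ∀ t ∈ P, t * t = 1 → t ≠ 1 → t ≠ (z : G) → (r : G) * t * (r : G)⁻¹ = t * z :=
    fun t ht htt h1 h2 => congrArg Subtype.val
      (hswap' ⟨t, ht.1⟩ ht.2 (fun h => hout t ht htt h1 h2 ⟨_, h, rfl⟩) (Subtype.ext htt))
  -- an involution `t` outside
  obtain ⟨t, htP, htt, ht1, htz⟩ : ∃ t ∈ P, t * t = 1 ∧ t ≠ 1 ∧ t ≠ (z : G) := by
    by_cases h : h₀ * a₁ * h₀⁻¹ = z
    · exact ⟨_, ⟨hb₂.1, hb₂.2⟩, sq a₂ q2, fun h' => q4 (conj_eq_one_iff.mp h'),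
        fun h' => q5 (mul_left_cancel (mul_right_cancel (h.trans h'.symm)))⟩
    · exact ⟨_, ⟨hb₁.1, hb₁.2⟩, sq a₁ q1, fun h' => q3 (conj_eq_one_iff.mp h'), h⟩
  -- an element of `U` centralizing `r`
  obtain ⟨u, huU, hu1, hur⟩ := exists_centralizing hU (fun u hu => hzS u (hUS hu)) hz2 (w := (r : G))
    fun u hu => (hrconj ⟨u, hUS hu⟩).imp (congrArg Subtype.val) (congrArg Subtype.val)
  have huu : u * u = 1 := congrArg Subtype.val (IsKleinFour.mul_self (⟨u, huU⟩ : U))
  have hut : u * t * u⁻¹ = t * z := by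
    rcases hfix' ⟨u, hUS huU⟩ (Subtype.ext huu) (Subtype.ext hur) ⟨t, htP.1⟩ htP.2
        (fun h => hout t htP htt ht1 htz ⟨_, h, rfl⟩) (Subtype.ext htt) with h | h
    · exact (false_of_centralized hΓ huU hu1 hzA htP.2 hz2 htt hz1 ht1 htz (hzS t htP.1).symm
        (hzS u (hUS huU)) (mul_inv_eq_iff_eq_mul.mp (congrArg Subtype.val h))).elim
    · exact congrArg Subtype.val h
  have hidx' : M.relIndex P = 2 := by
    have hP' : P = PT.map S.subtype := by
      show S ⊓ A = (A.subgroupOf S).map S.subtype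
      rw [Subgroup.subgroupOf_map_subtype, inf_comm]
    rw [hP', Subgroup.relIndex_map_map_of_injective _ _ S.subtype_injective, hidx]
  exact false_of_shape A P M hA hP inf_le_right hodd hMP hidx' ⟨z.2, hzA⟩ ⟨r.2, hrA⟩ (fun x hx => hzS x hx.1)
    hz2 hz1 hrr hMinv hcent hswap htP htt ht1 htz huu
    (fun x hx => (Subgroup.mem_normalizer_iff.mp (hUA huU) x).mp hx) (hzS u (hUS huU)) hur hut

end CfsgLib.FourRankOne
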