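import Mathlib

/-!
# Sylow conjugation and the transfer argument for involutions
-/

set_option autoImplicit false
set_option linter.unusedSectionVars false
set_option linter.style.haveILetI false

namespace CfsgLib.FourRankOne

/-- In a perfect group an involution is conjugate into every subgroup of index twice an odd number. -/
theorem exists_conj_mem {X : Type*} [Group X] [Finite X] (hX : commutator X = ⊤) (M : Subgroup X) {k : ℕ}
    (hk : Odd k) (hM : M.index = 2 * k) {t : X} (ht : t * t = 1) : ∃ g, g⁻¹ * t * g ∈ M := by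
  classical
  by_contra hcon
  push Not at hcon
  haveI : Fintype (X ⧸ M) := Fintype.ofFinite _
  set σ := MulAction.toPermHom X (X ⧸ M) t with hσ
  have hfix : ∀ q : X ⧸ M, σ q ≠ q := by
    intro q hq
    induction q using QuotientGroup.induction_on with
    | _ g =>
      have h : ((t * g : X) : X ⧸ M) = (g : X ⧸ M) := hq
      refine hcon g ?_
      have h' := inv_mem (QuotientGroup.eq.mp h)
      simpa [mul_assoc] using h'
  have h2 : ∀ l ∈ σ.cycleType, l = 2 := by
    intro l hl
    have h1 := Equiv.Perm.two_le_of_mem_cycleType hl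
    have h3 : l ∣ 2 := (Equiv.Perm.dvd_of_mem_cycleType hl).trans
      (orderOf_dvd_of_pow_eq_one (by rw [hσ, pow_two, ← map_mul, ht, map_one]))
    exact le_antisymm (Nat.le_of_dvd two_pos h3) h1
  have hsum : σ.cycleType.sum = 2 * k := by
    rw [Equiv.Perm.sum_cycleType, show σ.support = Finset.univ from
      Finset.eq_univ_iff_forall.mpr fun q => Equiv.Perm.mem_support.mpr (hfix q), Finset.card_univ,
      Fintype.card_eq_nat_card]
    exact hM
  have hcard : Multiset.card σ.cycleType = k := by
    rw [Multiset.eq_replicate_card.mpr h2, Multiset.sum_replicate, smul_eq_mul] at hsum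
    omega
  have hsign : Equiv.Perm.sign σ = -1 := by
    rw [Equiv.Perm.sign_of_cycleType, hsum, hcard]
    exact Odd.neg_one_pow (by rw [Nat.odd_iff] at hk ⊢; omega)
  have hker := Abelianization.commutator_subset_ker (Equiv.Perm.sign.comp (MulAction.toPermHom X (X ⧸ M)))
  rw [hX] at hker
  have h1 : Equiv.Perm.sign σ = 1 := hker (Subgroup.mem_top t)
  rw [hsign] at h1
  exact absurd h1 (by decide)

variable {G : Type*} [Group G] [Finite G]

/-- A Sylow subgroup of `A` receives every 2-subgroup of an intermediate subgroup. -/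
theorem conj_into (A P : Subgroup G) (hP : IsPGroup 2 P) (hodd : ¬ 2 ∣ P.relIndex A) (H : Subgroup G)
    (hPH : P ≤ H) (hHA : H ≤ A) (X : Subgroup G) (hX : IsPGroup 2 X) (hXH : X ≤ H) :
    ∃ h ∈ H, ∀ x ∈ X, h * x * h⁻¹ ∈ P := by
  haveI : Fact (Nat.Prime 2) := ⟨Nat.prime_two⟩
  have hidx : ¬ 2 ∣ (P.subgroupOf H).index := fun h =>
    hodd (dvd_trans h ⟨H.relIndex A, (Subgroup.relIndex_mul_relIndex P H A hPH hHA).symm⟩)
  let Q : Sylow 2 H := (hP.of_equiv (Subgroup.subgroupOfEquivOfLe hPH).symm).toSylow hidx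
  obtain ⟨R, hR⟩ := IsPGroup.exists_le_sylow
    (P := X.subgroupOf H) (hX.of_equiv (Subgroup.subgroupOfEquivOfLe hXH).symm)
  obtain ⟨h, hh⟩ := MulAction.exists_smul_eq H R Q
  refine ⟨h, h.2, fun x hx => ?_⟩
  have h1 : MulAut.conj h (⟨x, hXH hx⟩ : H) ∈ (Q : Subgroup H) := by
    rw [← hh, Sylow.coe_subgroup_smul]
    exact Subgroup.smul_mem_pointwise_smul _ _ _ (hR hx)
  exact h1

end CfsgLib.FourRankOne
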